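/-
Compatible involutions of a field extension of prime degree: elements with fixed norm, and quadratic maps
vanishing on them.
-/
import Cfsg.Agent.Lib.Classical.Unitary.Field
import Mathlib

set_option autoImplicit false
set_option linter.unusedSectionVars false

namespace CfsgLib.Geo.UnitFieldExt

open Module CfsgLib.Classical.Herm

variable {F K : Type*} [Field F] [Field K] [Algebra F K]

/-- An involution of the larger field extending one of the smaller field. -/
structure Pair (σ : F →+* F) (s : K →+* K) : Prop where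
  invol : IsInvol σ
  invol' : IsInvol s
  ext : ∀ c, s (algebraMap F K c) = algebraMap F K (σ c)
  prime : (finrank F K).Prime

/-- The norm of `a` is fixed. -/
def InA (σ : F →+* F) (a : K) : Prop := σ (Algebra.norm F a) = Algebra.norm F a

variable {σ : F →+* F} {s : K →+* K}

theorem InA.mul {a b : K} (ha : InA σ a) (hb : InA σ b) : InA σ (a * b) := by
  rw [InA] at *
  rw [map_mul, map_mul, ha, hb]

variable [Finite F] [FiniteDimensional F K]

omit [Finite F] in
theorem norm_inv' (b : K) : Algebra.norm F b⁻¹ = (Algebra.norm F b)⁻¹ := by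
  rcases eq_or_ne b 0 with rfl | hb
  · simp
  · exact eq_inv_of_mul_eq_one_left (by rw [← map_mul, inv_mul_cancel₀ hb, map_one])

omit [Finite F] in
theorem InA.div {a b : K} (ha : InA σ a) (hb : InA σ b) : InA σ (a / b) := by
  rw [InA] at *
  rw [div_eq_mul_inv, map_mul, norm_inv', map_mul, map_inv₀, ha, hb]

variable (hp : Pair σ s)
include hp

omit [Finite F] [FiniteDimensional F K] in
theorem Pair.smul (c : F) (x : K) : s (c • x) = σ c • s x := by
  rw [Algebra.smul_def, map_mul, hp.ext, Algebra.smul_def]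

theorem Pair.norm_conj (x : K) : Algebra.norm F (s x) = σ (Algebra.norm F x) := by
  haveI : Finite K := Module.finite_of_finite F
  refine (algebraMap F K).injective ?_
  rw [← hp.ext, FiniteField.algebraMap_norm_eq_pow, FiniteField.algebraMap_norm_eq_pow, map_pow]

theorem Pair.inA_fixed {t : K} (ht : s t = t) : InA σ t := by
  show σ _ = _
  rw [← hp.norm_conj, ht]

theorem Pair.inA_pow (x : K) : InA σ (x ^ (Nat.card (fixedSub σ) + 1)) := by
  show σ _ = _
  rw [map_pow, pow_succ, ← hp.invol.apply_eq_pow]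
  rw [mul_comm]
  exact hp.invol.norm_mem _

theorem Pair.card_fixed : Nat.card (fixedSub s) = Nat.card (fixedSub σ) ^ finrank F K := by
  haveI : Finite K := Module.finite_of_finite F
  refine Nat.pow_left_injective two_ne_zero ?_
  show Nat.card (fixedSub s) ^ 2 = (Nat.card (fixedSub σ) ^ finrank F K) ^ 2
  rw [← hp.invol'.card_sq, ← pow_mul, mul_comm, pow_mul, ← hp.invol.card_sq, Module.natCard_eq_pow_finrank (K := F)]

/-- The elements of fixed norm are not covered by few lines over the fixed field. -/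
theorem Pair.not_covered (hbig : (Nat.card (fixedSub σ) + 1) ^ 2 < Nat.card (fixedSub σ) ^ finrank F K)
    (reps : Finset K) (hreps : reps.card ≤ Nat.card (fixedSub σ) + 1) :
    ∃ a, InA σ a ∧ ∀ t, s t = t → ∀ e ∈ reps, a ≠ t * e := by
  classical
  haveI : Finite K := Module.finite_of_finite F
  haveI : Fintype K := Fintype.ofFinite K
  by_contra! hall
  set q := Nat.card (fixedSub σ)
  set T := (Finset.univ.filter fun t : K => s t = t)
  have hT : T.card = q ^ finrank F K := by
    rw [← hp.card_fixed, Nat.card_eq_fintype_card]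
    refine (Fintype.card_of_subtype T fun x => ?_).symm
    simp [T, mem_fixedSub]
  set S := ((Finset.univ : Finset K).erase 0).image fun x => x ^ (q + 1)
  have h1 : ((Finset.univ : Finset K).erase 0).card ≤ (q + 1) * S.card := by
    refine Finset.card_le_mul_card_image _ (q + 1) fun a _ => ?_
    refine (Finset.card_le_card (t := (Polynomial.nthRoots (q + 1) a).toFinset) fun x hx => ?_).trans
      ((Multiset.toFinset_card_le _).trans (Polynomial.card_nthRoots _ _))
    rw [Multiset.mem_toFinset, Polynomial.mem_nthRoots (by omega)]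
    exact (Finset.mem_filter.1 hx).2
  have h2 : S.card ≤ q ^ finrank F K * (q + 1) := by
    refine (Finset.card_le_card (t := Finset.image₂ (· * ·) T reps) fun a ha => ?_).trans
      ((Finset.card_image₂_le _ _ _).trans (by rw [hT]; exact Nat.mul_le_mul_left _ hreps))
    obtain ⟨x, -, rfl⟩ := Finset.mem_image.1 ha
    obtain ⟨t, ht, e, he, heq⟩ := hall _ (hp.inA_pow x)
    exact Finset.mem_image₂.2 ⟨t, by simp [T, ht], e, he, heq.symm⟩
  rw [Finset.card_erase_of_mem (Finset.mem_univ _), Finset.card_univ, ← Nat.card_eq_fintype_card,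
    hp.invol'.card_sq, hp.card_fixed] at h1
  set Q := q ^ finrank F K
  have h3 : Q ^ 2 - 1 ≤ (q + 1) * (Q * (q + 1)) := h1.trans (Nat.mul_le_mul_left _ h2)
  have h4 : ((q + 1) ^ 2 + 1) * Q ≤ Q * Q := Nat.mul_le_mul_right _ hbig
  have h5 : (q + 1) * (Q * (q + 1)) + Q = ((q + 1) ^ 2 + 1) * Q := by ring
  have h6 : 1 < Q := lt_of_le_of_lt (Nat.one_le_pow _ _ (by omega)) hbig
  rw [pow_two Q] at h3
  omega

/-- Two elements of fixed norm with independent slopes. -/
theorem Pair.exists_slopes (hbig : (Nat.card (fixedSub σ) + 1) ^ 2 < Nat.card (fixedSub σ) ^ finrank F K) :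
    ∃ α l ρ : K, InA σ α ∧ s α ≠ α ∧ s l = l ∧ l ≠ 0 ∧ s ρ = ρ ∧ ρ ∉ Set.range (algebraMap F K) ∧
      InA σ (1 + l * α) ∧ InA σ (1 + ρ * l * α) := by
  classical
  haveI : Fintype F := Fintype.ofFinite F
  obtain ⟨α, hα, hα'⟩ := hp.not_covered hbig {1} (by simp)
  have hsα : s α ≠ α := fun e => hα' α e 1 (by simp) (mul_one α).symm
  have hαA := hα
  have hdec : ∀ a : K, ∃ t₁ t₂, s t₁ = t₁ ∧ s t₂ = t₂ ∧ a = t₁ + t₂ * α := fun a => by
    have hd : α - s α ≠ 0 := sub_ne_zero.2 (Ne.symm hsα)
    have hd' : s α - α ≠ 0 := sub_ne_zero.2 hsα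
    refine ⟨a - (a - s a) / (α - s α) * α, (a - s a) / (α - s α), ?_, ?_, by ring⟩
    · simp only [map_sub, map_mul, map_div₀, hp.invol'.invol]
      field_simp
      ring
    · simp only [map_sub, map_div₀, hp.invol'.invol]
      rw [div_eq_div_iff hd' hd]
      ring
  have hslope : ∀ a, InA σ a → (∀ t, s t = t → a ≠ t * α) → ∃ t l, s t = t ∧ s l = l ∧ a = t * (1 + l * α) ∧
      InA σ (1 + l * α) := fun a ha hne => by
    obtain ⟨t₁, t₂, h1, h2, rfl⟩ := hdec a
    have h10 : t₁ ≠ 0 := fun e => hne t₂ h2 (by rw [e, zero_add])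
    refine ⟨t₁, t₂ / t₁, h1, by rw [map_div₀, h1, h2], by field_simp, ?_⟩
    convert ha.div (hp.inA_fixed h1) using 1
    field_simp
  obtain ⟨a, ha, ha'⟩ := hp.not_covered hbig {1, α} (by
    refine Finset.card_le_two.trans ?_
    have := IsInvol.card_ge_two (σ := σ)
    omega)
  obtain ⟨t, l, ht, hl, rfl, hlA⟩ := hslope a ha (fun t ht => ha' t ht α (by simp))
  have hl0 : l ≠ 0 := fun e => ha' t ht 1 (by simp) (by rw [e, zero_mul, add_zero])
  let reps : Finset K := insert α ((Finset.univ.filter fun c : F => σ c = c).image fun c => 1 + (c • l) * α)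
  obtain ⟨b, hb, hb'⟩ := hp.not_covered hbig reps (by
    refine (Finset.card_insert_le _ _).trans (Nat.add_le_add_right (Finset.card_image_le.trans ?_) 1)
    rw [Nat.card_eq_fintype_card]
    refine (Fintype.card_of_subtype _ fun x => ?_).ge
    simp [mem_fixedSub])
  obtain ⟨t', l', ht', hl', rfl, hlA'⟩ := hslope b hb (fun u hu => hb' u hu α (Finset.mem_insert_self _ _))
  refine ⟨α, l, l' / l, hαA, hsα, hl, hl0, by rw [map_div₀, hl, hl'], ?_, hlA,
    by rw [div_mul_cancel₀ _ hl0]; exact hlA'⟩
  rintro ⟨c, hc⟩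
  have hc' : l' = c • l := by rw [Algebra.smul_def, hc, div_mul_cancel₀ _ hl0]
  have hσc : σ c = c := (algebraMap F K).injective (by rw [← hp.ext, hc, map_div₀, hl, hl'])
  exact hb' t' ht' (1 + (c • l) * α) (Finset.mem_insert_of_mem (Finset.mem_image.2 ⟨c, by simp [hσc], rfl⟩))
    (by rw [hc'])

/-- A quadratic map over the fixed field vanishing on the elements of fixed norm vanishes. -/
theorem Pair.mem_of_quadratic (hbig : (Nat.card (fixedSub σ) + 1) ^ 2 < Nat.card (fixedSub σ) ^ finrank F K)
    {M : Type*} [AddCommGroup M] (G : AddSubgroup M) (Φ : K → M) (β : K → K → M)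
    (hadd : ∀ x y, Φ (x + y) = Φ x + Φ y + β x y) (hsymm : ∀ x y, β x y = β y x)
    (hβ : ∀ x y z, β (x + y) z = β x z + β y z)
    (hbal : ∀ c : F, σ c = c → ∀ x y, β (c • x) y = β x (c • y))
    (hA : ∀ a, InA σ a → Φ a ∈ G) (b : K) : Φ b ∈ G := by
  classical
  obtain ⟨α, l, ρ, hα, hsα, hl, hl0, hρ, hρF, hlA, hρA⟩ := hp.exists_slopes hbig
  haveI : Finite K := Module.finite_of_finite F
  let γ : K → K → M := fun x y => β x (l * y * α)
  have hβ' : ∀ x y z, β x (y + z) = β x y + β x z := fun x y z => by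
    rw [hsymm, hβ, hsymm y, hsymm z]
  have hγl : ∀ x y z, γ (x + y) z = γ x z + γ y z := fun x y z => hβ x y _
  have hγr : ∀ x y z, γ x (y + z) = γ x y + γ x z := fun x y z => by
    show β x _ = _
    rw [mul_add, add_mul, hβ']
  have hpart : ∀ x μ, s x = x → s μ = μ → InA σ (1 + μ * α) → β x (μ * x * α) ∈ G := fun x μ hx hμ hμA => by
    have h1 : Φ (x + μ * x * α) ∈ G := by
      refine hA _ ?_
      convert (hp.inA_fixed hx).mul hμA using 1
      ring
    rw [hadd] at h1
    exact (G.add_mem_cancel_left (G.add_mem (hA _ (hp.inA_fixed hx))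
      (hA _ ((hp.inA_fixed (by rw [map_mul, hμ, hx])).mul hα)))).1 h1
  have halt : ∀ x, s x = x → γ x x ∈ G := fun x hx => hpart x l hx hl hlA
  have haltρ : ∀ x, s x = x → γ x (ρ * x) ∈ G := fun x hx => by
    have := hpart x (ρ * l) hx (by rw [map_mul, hρ, hl]) hρA
    convert this using 1
    show β x _ = _
    congr 1
    ring
  have hswap : ∀ x y, s x = x → s y = y → γ x y + γ y x ∈ G := fun x y hx hy => by
    have h1 := halt (x + y) (by rw [map_add, hx, hy])
    rw [hγl, hγr, hγr] at h1
    have h2 := G.sub_mem (G.sub_mem h1 (halt x hx)) (halt y hy)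
    convert h2 using 1
    abel
  -- the elements acting symmetrically
  let T : K → Prop := fun z => s z = z ∧ ∀ x y, s x = x → s y = y → γ (z * x) y - γ x (z * y) ∈ G
  have Tadd : ∀ a a', T a → T a' → T (a + a') := fun a a' ha ha' => ⟨by rw [map_add, ha.1, ha'.1],
    fun x y hx hy => by
      convert G.add_mem (ha.2 x y hx hy) (ha'.2 x y hx hy) using 1
      rw [add_mul, add_mul, hγl, hγr]
      abel⟩
  have Tmul : ∀ a a', T a → T a' → T (a * a') := fun a a' ha ha' => ⟨by rw [map_mul, ha.1, ha'.1],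
    fun x y hx hy => by
      convert G.add_mem (ha.2 (a' * x) y (by rw [map_mul, ha'.1, hx]) hy)
        (ha'.2 x (a * y) hx (by rw [map_mul, ha.1, hy])) using 1
      rw [show a * a' * x = a * (a' * x) by ring, show a * a' * y = a' * (a * y) by ring]
      abel⟩
  have Tfix : ∀ c : F, σ c = c → T (algebraMap F K c) := fun c hc => ⟨by rw [hp.ext, hc], fun x y _ _ => by
    show β _ _ - β _ _ ∈ G
    rw [← Algebra.smul_def, ← Algebra.smul_def, hbal c hc, show c • (l * y * α) = l * (c • y) * α by
      rw [mul_smul_comm, smul_mul_assoc], sub_self]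
    exact G.zero_mem⟩
  have Tρ : T ρ := ⟨hρ, fun x y hx hy => by
    have hρx : s (ρ * x) = ρ * x := by rw [map_mul, hρ, hx]
    have h1 := haltρ (x + y) (by rw [map_add, hx, hy])
    rw [mul_add, hγl, hγr, hγr] at h1
    have h2 := G.sub_mem (G.sub_mem h1 (haltρ x hx)) (haltρ y hy)
    convert G.sub_mem (hswap _ y hρx hy) h2 using 1
    abel⟩
  have Tpow : ∀ i : ℕ, T (ρ ^ i) := by
    intro i
    induction i with
    | zero => rw [pow_zero, ← map_one (algebraMap F K)]; exact Tfix 1 (map_one σ)
    | succ i ih => rw [pow_succ]; exact Tmul _ _ ih Tρ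
  have Tall : ∀ x, s x = x → T x := by
    intro x hx
    let Z : Submodule F K :=
      { carrier := {z | ∀ c : F, T (c • z + s (c • z))}
        add_mem' := fun {a a'} ha ha' c => by
          convert Tadd _ _ (ha c) (ha' c) using 1
          rw [smul_add, map_add]
          abel
        zero_mem' := fun c => by
          rw [smul_zero, map_zero, add_zero, ← map_zero (algebraMap F K)]
          exact Tfix 0 (map_zero σ)
        smul_mem' := fun d a ha c => by rw [smul_smul]; exact ha _ }
    have hle : Subalgebra.toSubmodule (Algebra.adjoin F {ρ}) ≤ Z := by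
      rw [Algebra.adjoin_eq_span, Submodule.span_le]
      intro y hy c
      obtain ⟨i, rfl⟩ := Submonoid.mem_closure_singleton.1 hy
      rw [hp.smul, map_pow, hρ, ← add_smul, Algebra.smul_def]
      exact Tmul _ _ (Tfix _ (by rw [map_add, hp.invol.invol, add_comm])) (Tpow i)
    haveI := Subalgebra.isSimpleOrder_of_finrank_prime F K hp.prime
    rcases eq_bot_or_eq_top (Algebra.adjoin F {ρ}) with e | e
    · exact absurd (Algebra.mem_bot.1 (e ▸ Algebra.self_mem_adjoin_singleton F ρ)) hρF
    rw [e, Algebra.top_toSubmodule, top_le_iff] at hle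
    obtain ⟨τ, hτ⟩ := hp.invol.exists_trace_eq (μ := 1) (map_one σ)
    have h1 : x ∈ Z := hle ▸ Submodule.mem_top
    have h2 := h1 τ
    rwa [hp.smul, hx, ← add_smul, hτ, one_smul] at h2
  have hγ : ∀ x y, s x = x → s y = y → γ x y ∈ G := by
    have hone : ∀ x y, s x = x → s y = y → γ x y - γ 1 (x * y) ∈ G := fun x y hx hy => by
      simpa using (Tall x hx).2 1 y (map_one s) hy
    intro x y hx hy
    by_cases h2 : (2 : K) = 0
    · haveI : CharP K 2 := CharTwo.of_one_ne_zero_of_two_eq_zero one_ne_zero h2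
      haveI : Fintype K := Fintype.ofFinite K
      obtain ⟨w, hw⟩ := FiniteField.isSquare_of_char_two (ringChar.eq K 2) (x * y)
      have hsw : s w = w := by
        have h3 : s w * s w = w * w := by rw [← map_mul, ← hw, map_mul, hx, hy]
        exact (mul_self_eq_mul_self_iff.1 h3).elim id (fun e => by rw [e, CharTwo.neg_eq])
      have h4 := hone w w hsw hsw
      rw [← hw] at h4
      convert G.add_mem (G.sub_mem (hone x y hx hy) h4) (halt w hsw) using 1
      abel
    · set x' := x / 2
      have hx' : s x' = x' := by rw [map_div₀, hx, map_ofNat]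
      have hsum : x = x' + x' := by
        rw [← two_mul, mul_div_cancel₀ _ h2]
      have h3 := hone x' y hx' hy
      have h4 := hone y x' hy hx'
      rw [mul_comm y x'] at h4
      rw [hsum, hγl]
      convert G.add_mem (G.sub_mem h3 h4) (hswap x' y hx' hy) using 1
      abel
  have hd : α - s α ≠ 0 := sub_ne_zero.2 (Ne.symm hsα)
  have hd' : s α - α ≠ 0 := sub_ne_zero.2 hsα
  set t₂ := (b - s b) / (α - s α)
  have ht₂ : s t₂ = t₂ := by
    simp only [t₂, map_sub, map_div₀, hp.invol'.invol]
    rw [div_eq_div_iff hd' hd]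
    ring
  have ht₁ : s (b - t₂ * α) = b - t₂ * α := by
    rw [map_sub, map_mul, ht₂]
    simp only [t₂]
    field_simp
    ring
  have e : b = (b - t₂ * α) + t₂ * α := by ring
  rw [e, hadd]
  refine G.add_mem (G.add_mem (hA _ (hp.inA_fixed ht₁)) (hA _ ((hp.inA_fixed ht₂).mul hα))) ?_
  have h5 := hγ (b - t₂ * α) (t₂ / l) ht₁ (by rw [map_div₀, ht₂, hl])
  show β (b - t₂ * α) (t₂ * α) ∈ G
  convert h5 using 2
  show _ = l * (t₂ / l) * α
  rw [mul_div_cancel₀ _ hl0]

end CfsgLib.Geo.UnitFieldExt
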