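/-
Root elements on isotropic lines in an overgroup of a unitary group over a larger field.
-/
import Cfsg.Agent.Lib.Geo.UnitFieldExt.Field
import Cfsg.Agent.Lib.Geo.FieldExtSympAlg
import Cfsg.Agent.Lib.Geo.UnitMaximal
import Cfsg.Agent.Lib.Classical.Unitary.Isotropic

set_option autoImplicit false
set_option linter.unusedSectionVars false

namespace CfsgLib.Geo.UnitFieldExt

open Module CfsgLib.Classical CfsgLib.Classical.Herm CfsgLib.Geo.FieldExt

variable {F K V : Type*} [Field F] [Field K] [Algebra F K] [AddCommGroup V] [Module F V] [Module K V]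
  [IsScalarTower F K V] {σ : F →+* F} {s : K →+* K}

/-- A group of isometries of `μ ∘ B` containing the isometries of `B` whose determinant has norm one. -/
structure Setup (σ : F →+* F) (μ : K →ₗ[F] F) (B : V →ₛₗ[s] V →ₗ[K] K) (X : Subgroup (V ≃ₗ[F] V)) : Prop where
  pair : Pair σ s
  herm : IsHerm B
  mu_one : μ 1 = 1
  mu_conj : ∀ x, μ (s x) = σ (μ x)
  preserves : ∀ g ∈ X, ∀ x y, μ (B (g x) (g y)) = μ (B x y)
  base : ∀ g : HU B, Algebra.norm F ((HU.det B g : Kˣ) : K) = 1 → (g : V ≃ₗ[K] V).restrictScalars F ∈ X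
  rank : 2 ≤ finrank K V
  big : 3 ≤ finrank K V ∨ (Nat.card (fixedSub σ) + 1) ^ 2 < Nat.card (fixedSub σ) ^ finrank F K

/-- The root element with coefficient `S` on `w` lies in `X`. -/
def Rw (B : V →ₛₗ[s] V →ₗ[K] K) (X : Subgroup (V ≃ₗ[F] V)) (w : V) (S : K →ₗ[F] K) : Prop :=
  U X (root w (B w) S)

/-- The root elements with coefficient `S` on all isotropic vectors lie in `X`. -/
def RS (B : V →ₛₗ[s] V →ₗ[K] K) (X : Subgroup (V ≃ₗ[F] V)) (S : K →ₗ[F] K) : Prop :=
  ∀ w, B w w = 0 → Rw B X w S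

/-- The twist of a coefficient by a scalar. -/
def sand (s : K →+* K) (b : K) (S : K →ₗ[F] K) : K →ₗ[F] K := (mulL b).comp (S.comp (mulL (s b)))

@[simp] theorem sand_apply (b : K) (S : K →ₗ[F] K) (x : K) : sand s b S x = b * S (s b * x) := rfl

variable {μ : K →ₗ[F] F} {B : V →ₛₗ[s] V →ₗ[K] K} {X : Subgroup (V ≃ₗ[F] V)}

theorem rw_smul {w : V} {a : K} {S : K →ₗ[F] K} : Rw B X (a • w) S ↔ Rw B X w (sand s a S) := by
  have e : ∀ y, root (a • w) (B (a • w)) S y = root w (B w) (sand s a S) y := fun y => by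
    simp only [root_apply, sand_apply, smul_left, smul_smul]
    rw [mul_comm a]
  exact ⟨fun h => h.congr e, fun h => h.congr fun y => (e y).symm⟩

theorem RS.sandwich {S : K →ₗ[F] K} (h : RS B X S) (b : K) : RS B X (sand s b S) := fun w hw =>
  rw_smul.1 (h (b • w) (by simp [hw]))

theorem RS.zero : RS B X (0 : K →ₗ[F] K) := fun w _ => U.zero.congr fun y => by simp

theorem rw_add {w : V} (hw : B w w = 0) {S S' : K →ₗ[F] K} (h : Rw B X w S) (h' : Rw B X w S') :
    Rw B X w (S + S') :=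
  (h.add h' fun y => by simp [hw]).congr fun y => by simp [add_smul]

theorem rw_neg {w : V} (hw : B w w = 0) {S : K →ₗ[F] K} (h : Rw B X w S) : Rw B X w (-S) :=
  (h.neg fun y => by simp [hw]).congr fun y => by simp

theorem RS.add {S S' : K →ₗ[F] K} (h : RS B X S) (h' : RS B X S') : RS B X (S + S') :=
  fun w hw => rw_add hw (h w hw) (h' w hw)

theorem RS.neg {S : K →ₗ[F] K} (h : RS B X S) : RS B X (-S) := fun w hw => rw_neg hw (h w hw)

variable [Finite F] [FiniteDimensional F K] [FiniteDimensional K V] (hs : Setup σ μ B X)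
include hs

theorem Setup.rw_conj {g : HU B} (hg : Algebra.norm F ((HU.det B g : Kˣ) : K) = 1) {w : V} {S : K →ₗ[F] K}
    (h : Rw B X w S) : Rw B X ((g : V ≃ₗ[K] V) w) S := by
  refine (h.conj (hs.base g hg)).congr fun y => ?_
  show (g : V ≃ₗ[K] V) (S (B w ((g : V ≃ₗ[K] V).symm y)) • w) = S (B ((g : V ≃ₗ[K] V) w) y) • (g : V ≃ₗ[K] V) w
  rw [map_smul]
  congr 2
  rw [← HU.map_eq g w, LinearEquiv.apply_symm_apply]

/-- Multiples of fixed norm of an isotropic vector are images. -/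
theorem Setup.exists_scale {w : V} (hw0 : w ≠ 0) (hw : B w w = 0) {a : K} (ha0 : a ≠ 0) (ha : InA σ a) :
    ∃ g : HU B, Algebra.norm F ((HU.det B g : Kˣ) : K) = 1 ∧ (g : V ≃ₗ[K] V) w = a • w := by
  obtain ⟨f, hwf, hff⟩ := hs.herm.exists_isotropic_partner hw0 hw
  obtain ⟨g, hdet, hg⟩ := CfsgLib.Geo.UnitMax.exists_dil hs.herm hw hff hwf ha0
  refine ⟨g, ?_, ?_⟩
  · have hN : Algebra.norm F a ≠ 0 := (Algebra.norm_ne_zero_iff).2 ha0
    rw [hdet, div_eq_mul_inv, map_mul, norm_inv', hs.pair.norm_conj, show σ (Algebra.norm F a) = _ from ha,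
      mul_inv_cancel₀ hN]
  · have hfw : B f w = 1 := by rw [← hs.herm.symm, hwf, map_one]
    rw [hg, hfw, hw, mul_one, mul_zero, zero_smul, add_zero, sub_smul, one_smul, add_sub_cancel]

/-- In dimension three all multiples of an isotropic vector are images. -/
theorem Setup.exists_scale_all (hm : 3 ≤ finrank K V) {w : V} (hw0 : w ≠ 0) (hw : B w w = 0) {a : K} (ha0 : a ≠ 0) :
    ∃ g : HU B, Algebra.norm F ((HU.det B g : Kˣ) : K) = 1 ∧ (g : V ≃ₗ[K] V) w = a • w := by
  haveI : Finite K := Module.finite_of_finite F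
  obtain ⟨f, hwf, hff⟩ := hs.herm.exists_isotropic_partner hw0 hw
  obtain ⟨g, hdet, hg⟩ := CfsgLib.Geo.UnitMax.exists_dil hs.herm hw hff hwf ha0
  have hfw : B f w = 1 := by rw [← hs.herm.symm, hwf, map_one]
  have hgw : (g : V ≃ₗ[K] V) w = a • w := by
    rw [hg, hfw, hw, mul_one, mul_zero, zero_smul, add_zero, sub_smul, one_smul, add_sub_cancel]
  have hd := hs.herm.hyperbolic_disc (f := f) hw hwf
  have hW := hs.herm.pair_nondeg hd
  have hfr := hs.herm.finrank_orth hW
  rw [hs.herm.pair_finrank hd] at hfr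
  obtain ⟨z, hz, hzz⟩ := hs.herm.exists_norm_in (hs.herm.orth_nondeg hW) (by omega) (map_one s)
  have hzw : B z w = 0 := hs.herm.eq_zero_symm (hs.herm.mem_orth.1 hz w (Submodule.subset_span (Set.mem_insert _ _)))
  have hzw0 : B z z ≠ 0 := by rw [hzz]; exact one_ne_zero
  have hsa : s a ≠ 0 := fun h0 => ha0 (IsInvol.apply_eq_zero_iff.1 h0)
  refine ⟨g * hs.herm.quasiIso z hzw0 (Units.mk0 (s a / a) (div_ne_zero hsa ha0))
    (by rw [Units.val_mk0, map_div₀, hs.pair.invol'.invol]; field_simp), ?_, ?_⟩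
  · rw [map_mul, hs.herm.det_quasiIso, Units.val_mul, hdet, Units.val_mk0, div_mul_div_cancel₀ hsa, div_self ha0,
      map_one]
  · show (g : V ≃ₗ[K] V) (quasi B z hzw0 _ w) = a • w
    rw [quasi_apply_perp _ _ _ hzw, hgw]

/-- Coefficients on one isotropic vector are invariant under all twists. -/
theorem Setup.rw_sand {w : V} (hw0 : w ≠ 0) (hw : B w w = 0) {S : K →ₗ[F] K} (h : Rw B X w S) (b : K) :
    Rw B X w (sand s b S) := by
  haveI : Finite K := Module.finite_of_finite F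
  rcases hs.big with hm | hbig
  · rcases eq_or_ne b 0 with rfl | hb0
    · exact U.zero.congr fun y => by simp
    obtain ⟨g, hg, hgw⟩ := hs.exists_scale_all hm hw0 hw hb0
    exact rw_smul.1 (hgw ▸ hs.rw_conj hg h)
  let G : AddSubgroup (K →ₗ[F] K) :=
    { carrier := {S | Rw B X w S}
      add_mem' := fun h h' => rw_add hw h h'
      zero_mem' := RS.zero w hw
      neg_mem' := fun h => rw_neg hw h }
  refine hs.pair.mem_of_quadratic hbig G (fun b => sand s b S)
    (fun x y => (mulL x).comp (S.comp (mulL (s y))) + (mulL y).comp (S.comp (mulL (s x))))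
    (fun x y => ?_) (fun x y => add_comm _ _) (fun x y z => ?_) (fun c hc x y => ?_) (fun a ha => ?_) b
  · refine LinearMap.ext fun z => ?_
    simp only [sand_apply, LinearMap.add_apply, LinearMap.comp_apply, mulL_apply, map_add, add_mul, mul_add]
    abel
  · refine LinearMap.ext fun z => ?_
    simp only [LinearMap.add_apply, LinearMap.comp_apply, mulL_apply, map_add, add_mul, mul_add]
    abel
  · refine LinearMap.ext fun z => ?_
    simp only [LinearMap.add_apply, LinearMap.comp_apply, mulL_apply, hs.pair.smul, hc, smul_mul_assoc,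
      mul_smul_comm, map_smul]
  · show Rw B X w (sand s a S)
    rcases eq_or_ne a 0 with rfl | ha0
    · exact U.zero.congr fun y => by simp
    obtain ⟨g, hg, hgw⟩ := hs.exists_scale hw0 hw ha0 ha
    exact rw_smul.1 (hgw ▸ hs.rw_conj hg h)

/-- The isometries of determinant one are transitive on isotropic vectors up to scalars. -/
theorem Setup.exists_move {w w' : V} (hw0 : w ≠ 0) (hw : B w w = 0) (hw'0 : w' ≠ 0) (hw' : B w' w' = 0) :
    ∃ (c : K) (g : HU B), Algebra.norm F ((HU.det B g : Kˣ) : K) = 1 ∧ (g : V ≃ₗ[K] V) (c • w) = w' := by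
  haveI : Finite K := Module.finite_of_finite F
  have hmem : ∀ v : V, v ≠ 0 → B v v = 0 → ![v] ∈ isoTuples B 1 := fun v hv hvv =>
    ⟨LinearIndependent.of_subsingleton 0 (by simpa using hv), fun i j => by
      rw [Subsingleton.elim i 0, Subsingleton.elim j 0]; exact hvv⟩
  obtain ⟨g, hg⟩ := hs.herm.exists_map_isoTuples (hmem w hw0 hw) (hmem w' hw'0 hw')
  have hgw : (g : V ≃ₗ[K] V) w = w' := hg 0
  set d : K := ((HU.det B g : Kˣ) : K)
  have hd : d * s d = 1 := hs.herm.det_norm_one g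
  obtain ⟨a, ha0, hda⟩ : ∃ a : K, a ≠ 0 ∧ a / s a = d := by
    by_cases h1 : d = -1
    · obtain ⟨θ, hθ, hθ'⟩ := hs.pair.invol'.exists_skew
      exact ⟨θ, hθ, by rw [hθ', h1, div_neg, div_self hθ]⟩
    · have h2 : 1 + d ≠ 0 := fun e => h1 (eq_neg_of_add_eq_zero_right e)
      have h3 : s (1 + d) * d = 1 + d := by
        rw [map_add, map_one, add_mul, one_mul, mul_comm (s d) d, hd, add_comm]
      exact ⟨1 + d, h2, by
        rw [div_eq_iff (fun e => h2 (IsInvol.apply_eq_zero_iff.1 e)), mul_comm, h3]⟩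
  obtain ⟨f, hwf, hff⟩ := hs.herm.exists_isotropic_partner hw0 hw
  obtain ⟨g₁, hdet, hg₁⟩ := CfsgLib.Geo.UnitMax.exists_dil hs.herm hw hff hwf ha0
  have hfw : B f w = 1 := by rw [← hs.herm.symm, hwf, map_one]
  have hg₁w : (g₁ : V ≃ₗ[K] V) w = a • w := by
    rw [hg₁, hfw, hw, mul_one, mul_zero, zero_smul, add_zero, sub_smul, one_smul, add_sub_cancel]
  refine ⟨a, g * g₁⁻¹, ?_, ?_⟩
  · have h1 : HU.det B g₁ = HU.det B g := Units.ext (by rw [hdet, hda])
    rw [map_mul, map_inv, h1, mul_inv_cancel, Units.val_one, map_one]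
  · show (g : V ≃ₗ[K] V) ((g₁ : V ≃ₗ[K] V).symm (a • w)) = w'
    rw [← hg₁w, LinearEquiv.symm_apply_apply, hgw]

/-- One root element gives all root elements with the same coefficient. -/
theorem Setup.rs_of_root {w : V} (hw0 : w ≠ 0) (hw : B w w = 0) {S : K →ₗ[F] K} (h : Rw B X w S) : RS B X S := by
  intro w' hw'
  rcases eq_or_ne w' 0 with rfl | hw'0
  · exact U.zero.congr fun y => by simp
  obtain ⟨c, g, hg, e⟩ := hs.exists_move hw0 hw hw'0 hw'
  exact e ▸ hs.rw_conj hg (rw_smul.2 (hs.rw_sand hw0 hw h c))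

theorem Setup.rs_mul {k : K} (hk : k + s k = 0) : RS B X (mulL (F := F) k) := fun w hw =>
  ⟨_, hs.base (hs.herm.tr hw hk) (by rw [hs.herm.det_tr, Units.val_one, map_one]), fun y => by
    rw [LinearEquiv.restrictScalars_apply, hs.herm.tr_apply, root_apply, mulL_apply]⟩

theorem Setup.rs_smul {S : K →ₗ[F] K} (h : RS B X S) {c : F} (hc : σ c = c) : RS B X (c • S) := by
  obtain ⟨a, ha⟩ := hs.pair.invol.exists_norm_eq hc
  refine fun w hw => ((h.sandwich (algebraMap F K a)) w hw).congr fun y => ?_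
  simp only [root_apply, sand_apply, hs.pair.ext, LinearMap.smul_apply, ← Algebra.smul_def, map_smul, smul_smul, ha]

theorem Setup.eq_zero_of_mu {c : K} (h : ∀ d, μ (c * d) = 0) : c = 0 :=
  FieldExtSymp.eq_zero_of_forall hs.mu_one h

theorem Setup.exists_isotropic_pair : ∃ v u : V, v ≠ 0 ∧ B v v = 0 ∧ B v u = 1 ∧ B u u = 0 := by
  haveI : Finite K := Module.finite_of_finite F
  obtain ⟨v, hv, hvv⟩ := hs.herm.exists_isotropic hs.rank
  obtain ⟨u, hu, huu⟩ := hs.herm.exists_isotropic_partner hv hvv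
  exact ⟨v, u, hv, hvv, hu, huu⟩

theorem Setup.unipotent_skew {T : V →ₗ[F] V} (hT : U X T) (hti : ∀ x y, μ (B (T x) (T y)) = 0) (y z : V) :
    μ (B (T y) z) + μ (B y (T z)) = 0 := by
  obtain ⟨g, hg, hg'⟩ := hT
  have h1 := hs.preserves g hg y z
  simp only [hg', map_add, LinearMap.add_apply, hti, add_zero] at h1
  linear_combination h1

end CfsgLib.Geo.UnitFieldExt
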