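/-
The span of the coefficients is a bimodule over the larger field.
-/
import Cfsg.Agent.Lib.Geo.UnitFieldExt.Setup

set_option autoImplicit false
set_option linter.unusedSectionVars false

namespace CfsgLib.Geo.UnitFieldExt

open Module CfsgLib.Classical CfsgLib.Classical.Herm CfsgLib.Geo.FieldExt

variable {F K V : Type*} [Field F] [Field K] [Algebra F K] [AddCommGroup V] [Module F V] [Module K V]
  [IsScalarTower F K V] {σ : F →+* F} {s : K →+* K} {μ : K →ₗ[F] F} {B : V →ₛₗ[s] V →ₗ[K] K}
  {X : Subgroup (V ≃ₗ[F] V)}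

/-- The span of the coefficients. -/
def RF (B : V →ₛₗ[s] V →ₗ[K] K) (X : Subgroup (V ≃ₗ[F] V)) : Submodule F (K →ₗ[F] K) :=
  Submodule.span F {S | RS B X S}

theorem RS.mem_rf {S : K →ₗ[F] K} (h : RS B X S) : S ∈ RF B X := Submodule.subset_span h

variable [Finite F] [FiniteDimensional F K] [FiniteDimensional K V] (hs : Setup σ μ B X)
include hs

/-- The coefficients are skew. -/
theorem Setup.skew_of_rs {S : K →ₗ[F] K} (h : RS B X S) (a b : K) : μ (s (S a) * b) + μ (s a * S b) = 0 := by
  obtain ⟨v, u, -, hv, hvu, -⟩ := hs.exists_isotropic_pair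
  have huv : B u v = 1 := by rw [← hs.herm.symm, hvu, map_one]
  have h1 := hs.unipotent_skew (h v hv) (fun x y => by simp [hv]) (a • u) (b • u)
  simpa [hvu, huv, mul_comm] using h1

theorem Setup.rf_twist {L : K →ₗ[F] K} (hL : L ∈ RF B X) (a b : K) :
    (mulL a).comp (L.comp (mulL b)) ∈ RF B X := by
  induction hL using Submodule.span_induction with
  | mem S hS =>
    obtain ⟨τ, hτ⟩ := hs.pair.invol.exists_ne
    let P : K → K → (K →ₗ[F] K) := fun x y => sand s (x + y) S - sand s x S - sand s y S
    have hP : ∀ x y, P x y ∈ RF B X := fun x y =>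
      (RF B X).sub_mem ((RF B X).sub_mem (RS.sandwich hS _).mem_rf (RS.sandwich hS _).mem_rf) (RS.sandwich hS _).mem_rf
    have e : (σ τ - τ) • ((mulL a).comp (S.comp (mulL b))) = σ τ • P a (s b) - P (τ • a) (s b) := by
      refine LinearMap.ext fun x => ?_
      simp only [P, LinearMap.smul_apply, LinearMap.sub_apply, LinearMap.comp_apply, sand_apply, mulL_apply, map_add,
        hs.pair.smul, hs.pair.invol'.invol, add_mul, mul_add, smul_mul_assoc, mul_smul_comm, map_smul, sub_smul,
        smul_sub, smul_add]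
      abel
    rw [← inv_smul_smul₀ (sub_ne_zero.2 hτ) ((mulL a).comp (S.comp (mulL b))), e]
    exact (RF B X).smul_mem _ ((RF B X).sub_mem ((RF B X).smul_mem _ (hP _ _)) (hP _ _))
  | zero => convert (RF B X).zero_mem; exact LinearMap.ext fun x => by simp
  | add L L' _ _ h h' => convert (RF B X).add_mem h h' using 1; exact LinearMap.ext fun x => by simp [mul_add]
  | smul c L _ h => convert (RF B X).smul_mem c h using 1; exact LinearMap.ext fun x => by simp

theorem Setup.mulL_mem_rf (k : K) : mulL (F := F) k ∈ RF B X := by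
  obtain ⟨θ, hθ, hθ'⟩ := hs.pair.invol'.exists_skew
  convert hs.rf_twist (RS.mem_rf (hs.rs_mul (k := θ) (by rw [hθ', add_neg_cancel]))) (k / θ) 1 using 1
  refine LinearMap.ext fun x => ?_
  simp only [LinearMap.comp_apply, mulL_apply, one_mul]
  rw [← mul_assoc, div_mul_cancel₀ _ hθ]

/-- Skew members of the span are coefficients. -/
theorem Setup.rs_of_mem {L : K →ₗ[F] K} (hL : L ∈ RF B X)
    (hsk : ∀ a b, μ (s (L a) * b) + μ (s a * L b) = 0) : RS B X L := by
  obtain ⟨M, hM, hM'⟩ : ∃ M : K →ₗ[F] K, (∀ a b, μ (s (L a) * b) + μ (s a * M b) = 0) ∧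
      ∀ c : F, RS B X (c • L + σ c • M) := by
    clear hsk
    induction hL using Submodule.span_induction with
    | mem S hS =>
      exact ⟨S, hs.skew_of_rs hS, fun c => by
        rw [← add_smul]
        exact hs.rs_smul hS (by rw [map_add, hs.pair.invol.invol, add_comm])⟩
    | zero => exact ⟨0, fun a b => by simp, fun c => by simpa using (RS.zero (B := B) (X := X))⟩
    | add L L' _ _ h h' =>
      obtain ⟨M, hM, hM'⟩ := h
      obtain ⟨M', hN, hN'⟩ := h'
      refine ⟨M + M', fun a b => ?_, fun c => ?_⟩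
      · simp only [LinearMap.add_apply, map_add, add_mul, mul_add]
        linear_combination hM a b + hN a b
      · convert (hM' c).add (hN' c) using 1
        simp only [smul_add]
        abel
    | smul d L _ h =>
      obtain ⟨M, hM, hM'⟩ := h
      refine ⟨σ d • M, fun a b => ?_, fun c => ?_⟩
      · simp only [LinearMap.smul_apply, hs.pair.smul, smul_mul_assoc, mul_smul_comm, map_smul, smul_eq_mul]
        linear_combination σ d * hM a b
      · convert hM' (c * d) using 1
        rw [map_mul, smul_smul, smul_smul]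
  have e : M = L := by
    refine LinearMap.ext fun b => sub_eq_zero.1 (hs.eq_zero_of_mu fun a => ?_)
    have h1 := hM (s a) b
    have h2 := hsk (s a) b
    rw [hs.pair.invol'.invol] at h1 h2
    rw [mul_comm, mul_sub, map_sub]
    linear_combination h1 - h2
  obtain ⟨τ, hτ⟩ := hs.pair.invol.exists_trace_eq (μ := 1) (map_one σ)
  have h1 := hM' τ
  rwa [e, ← add_smul, hτ, one_smul] at h1

/-- A member of rank one gives the coefficient of a transvection over the smaller field. -/
theorem Setup.rs_dy {L : K →ₗ[F] K} (hL : L ∈ RF B X) (hL0 : L ≠ 0) (hrk : finrank F (LinearMap.range L) ≤ 1)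
    {c : F} (hc : c + σ c = 0) : RS B X (c • μ.smulRight (1 : K)) := by
  obtain ⟨x₀, hx₀⟩ : ∃ x, L x ≠ 0 := by
    by_contra! hall
    exact hL0 (LinearMap.ext hall)
  have hspan : Submodule.span F {L x₀} = LinearMap.range L := Submodule.eq_of_le_of_finrank_le
    ((Submodule.span_singleton_le_iff_mem _ _).2 (LinearMap.mem_range_self L x₀))
    (by rw [finrank_span_singleton hx₀]; exact hrk)
  obtain ⟨π, hπ⟩ := exists_functional' (K := F) (V := K) hx₀
  have hLx : ∀ x, L x = π (L x) • L x₀ := fun x => by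
    obtain ⟨t, ht⟩ := Submodule.mem_span_singleton.1 (hspan.ge (LinearMap.mem_range_self L x))
    rw [← ht, map_smul, hπ, smul_eq_mul, mul_one]
  obtain ⟨m, hm⟩ := FieldExtSymp.exists_eq_mul hs.mu_one (π.comp L)
  have hm0 : m ≠ 0 := fun e => by simpa [e, hπ] using hm x₀
  refine hs.rs_of_mem ((RF B X).smul_mem c ?_) fun a b => ?_
  · convert hs.rf_twist hL (L x₀)⁻¹ m⁻¹ using 1
    refine LinearMap.ext fun x => ?_
    simp only [LinearMap.smulRight_apply, LinearMap.comp_apply, mulL_apply]
    have h1 := hm (m⁻¹ * x)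
    rw [mul_inv_cancel_left₀ hm0, LinearMap.comp_apply] at h1
    rw [hLx (m⁻¹ * x), h1, mul_smul_comm, inv_mul_cancel₀ hx₀]
  · simp only [LinearMap.smul_apply, LinearMap.smulRight_apply, hs.pair.smul, map_one, smul_mul_assoc, mul_smul_comm,
      one_mul, mul_one, map_smul, hs.mu_conj, smul_eq_mul]
    linear_combination (σ (μ a) * μ b) * hc

end CfsgLib.Geo.UnitFieldExt
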