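/-
Maps sending isotropic lines onto lines are semilinear.
-/
import Cfsg.Agent.Lib.Geo.UnitFieldExt.Setup
import Cfsg.Agent.Lib.Geo.FieldExtLines

set_option autoImplicit false
set_option linter.unusedSectionVars false

namespace CfsgLib.Geo.UnitFieldExt

open Module CfsgLib.Classical CfsgLib.Classical.Herm CfsgLib.Geo.FieldExt

variable {F K V : Type*} [Field F] [Field K] [Algebra F K] [AddCommGroup V] [Module F V] [Module K V]
  [IsScalarTower F K V] {σ : F →+* F} {s : K →+* K} {μ : K →ₗ[F] F} {B : V →ₛₗ[s] V →ₗ[K] K}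
  {X : Subgroup (V ≃ₗ[F] V)} [Finite F] [FiniteDimensional F K] [FiniteDimensional K V] (hs : Setup σ μ B X)
include hs

/-- On a hyperbolic plane the two lines share their automorphism. -/
theorem Setup.semilinear_pair (g : V ≃ₗ[F] V)
    (hL : ∀ v : V, v ≠ 0 → B v v = 0 → ∃ w, (line (F := F) K v).map (g : V →ₗ[F] V) = line K w)
    {u f : V} (hu : B u u = 0) (hf : B f f = 0) (huf : B u f ≠ 0) :
    ∃ ψ : K →ₐ[F] K, ∀ k : K, g (k • u) = ψ k • g u ∧ g (k • f) = ψ k • g f := by
  have hu0 : u ≠ 0 := fun e => huf (by simp [e])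
  have hf0 : f ≠ 0 := fun e => huf (by simp [e])
  have hline : ∀ v : V, v ≠ 0 → B v v = 0 → (line (F := F) K v).map (g : V →ₗ[F] V) = line K (g v) :=
    fun v hv hvv => by
      obtain ⟨w, hw⟩ := hL v hv hvv
      have h1 : g v ∈ line (F := F) K w := hw ▸ Submodule.mem_map_of_mem (self_mem_line v)
      rw [hw, line_eq h1 (by simpa using hv)]
  have hex : ∀ v : V, v ≠ 0 → B v v = 0 → ∀ k : K, ∃ c : K, g (k • v) = c • g v := fun v hv hvv k => by
    have h1 : g (k • v) ∈ line (F := F) K (g v) :=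
      hline v hv hvv ▸ Submodule.mem_map_of_mem (mem_line.2 ⟨k, rfl⟩)
    exact (mem_line.1 h1).imp fun c e => e.symm
  choose α hα using hex u hu0 hu
  choose β hβ using hex f hf0 hf
  have hindep : ∀ a b : K, a • g u + b • g f = 0 → a = 0 ∧ b = 0 := by
    have hne : g f ∉ line (F := F) K (g u) := fun hm => by
      rw [← hline u hu0 hu] at hm
      obtain ⟨y, hy, hy'⟩ := hm
      obtain ⟨c, hc⟩ := mem_line.1 hy
      rw [← g.injective hy', ← hc, map_smul, hu, smul_zero] at huf
      exact huf rfl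
    intro a b hab
    have hb : b = 0 := by
      by_contra hb
      refine hne (mem_line.2 ⟨-(a / b), ?_⟩)
      rw [neg_smul, div_eq_inv_mul, mul_smul, eq_neg_of_add_eq_zero_left hab, smul_neg, inv_smul_smul₀ hb, neg_neg]
    rw [hb, zero_smul, add_zero, smul_eq_zero] at hab
    exact ⟨hab.resolve_right (by simpa using hu0), hb⟩
  have huniq : ∀ {v : V}, v ≠ 0 → ∀ {a b : K}, a • g v = b • g v → a = b := fun {v} hv {a b} e =>
    smul_left_injective K (by simpa using hv) e
  have αadd : ∀ a b, α (a + b) = α a + α b := fun a b => huniq hu0 (by rw [← hα, add_smul, map_add, hα, hα, add_smul])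
  have βadd : ∀ a b, β (a + b) = β a + β b := fun a b => huniq hf0 (by rw [← hβ, add_smul, map_add, hβ, hβ, add_smul])
  have αsmul : ∀ (c : F) a, α (c • a) = c • α a := fun c a => huniq hu0 (by
    rw [← hα, smul_assoc, map_smul, hα, smul_assoc])
  have βsmul : ∀ (c : F) a, β (c • a) = c • β a := fun c a => huniq hf0 (by
    rw [← hβ, smul_assoc, map_smul, hβ, smul_assoc])
  have α1 : α 1 = 1 := huniq hu0 (by rw [← hα, one_smul, one_smul])
  have β1 : β 1 = 1 := huniq hf0 (by rw [← hβ, one_smul, one_smul])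
  set z := B u f
  -- mixed isotropic vectors
  have key : ∀ t, t * z + s (t * z) = 0 → ∀ a, β (a * t) = α a * β t := by
    intro t ht a
    have hiso : B (u + t • f) (u + t • f) = 0 := by
      have hfu : B f u = s z := (hs.herm.symm u f).symm
      simp only [map_add, LinearMap.add_apply, smul_left, smul_right, hu, hf, hfu]
      rw [map_mul] at ht
      linear_combination ht
    have hne : u + t • f ≠ 0 := fun e => huf (by
      have h1 := congrArg (B u) e
      rw [map_add, map_smul, hu, zero_add, map_zero, smul_eq_zero] at h1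
      rcases h1 with h1 | h1
      · rw [h1, zero_smul, add_zero] at e
        exact absurd e hu0
      · exact h1)
    obtain ⟨c, hc⟩ := hex _ hne hiso a
    have e1 : g (a • (u + t • f)) = α a • g u + β (a * t) • g f := by
      rw [smul_add, map_add, smul_smul, hα, hβ]
    rw [e1, map_add, hβ, smul_add, smul_smul] at hc
    obtain ⟨h1, h2⟩ := hindep (α a - c) (β (a * t) - c * β t) (by linear_combination (norm := module) hc)
    rw [sub_eq_zero] at h1 h2
    rw [h2, h1]
  obtain ⟨θ, hθ, hθ'⟩ := hs.pair.invol'.exists_skew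
  set η₀ := θ / z
  have hη₀ : η₀ ≠ 0 := div_ne_zero hθ huf
  have k1 : ∀ a, β (a * η₀) = α a * β η₀ := key η₀ (by rw [div_mul_cancel₀ _ huf, hθ', add_neg_cancel])
  have hβη : β η₀ ≠ 0 := fun e => by
    have h1 := k1 η₀⁻¹
    rw [inv_mul_cancel₀ hη₀, β1, e, mul_zero] at h1
    exact one_ne_zero h1
  have hmul : ∀ a x, s x = x → α (a * x) = α a * α x := by
    intro a x hx
    have h1 := key (x * η₀) (by
      rw [mul_assoc, div_mul_cancel₀ _ huf, map_mul, hx, hθ']; ring) a
    rw [← mul_assoc, k1, k1] at h1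
    exact mul_right_cancel₀ hβη (by linear_combination h1)
  have hmul' : ∀ a b, α (a * b) = α a * α b := by
    obtain ⟨τ, hτ⟩ := hs.pair.invol.exists_ne
    intro a b
    have hd : σ τ - τ ≠ 0 := sub_ne_zero.2 hτ
    set x₂ := (σ τ - τ)⁻¹ • (s b - b)
    have hx₂ : s x₂ = x₂ := by
      simp only [x₂, hs.pair.smul, map_sub, map_inv₀, hs.pair.invol.invol, hs.pair.invol'.invol]
      rw [← neg_sub (σ τ) τ, inv_neg, neg_smul, ← smul_neg, neg_sub]
    have hx₁ : s (b - τ • x₂) = b - τ • x₂ := by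
      rw [map_sub, hs.pair.smul, hx₂]
      have e : σ τ • x₂ - τ • x₂ = s b - b := by rw [← sub_smul, smul_inv_smul₀ hd]
      linear_combination -e
    have e : b = (b - τ • x₂) + τ • x₂ := (sub_add_cancel _ _).symm
    rw [e, mul_add, αadd, αadd, mul_smul_comm, αsmul, αsmul, hmul _ _ hx₁, hmul _ _ hx₂, mul_add, mul_smul_comm]
  have hβα : ∀ a, β a = α a := by
    intro a
    have h1 : α η₀⁻¹ * β η₀ = 1 := by rw [← k1, inv_mul_cancel₀ hη₀, β1]
    calc β a = β (a * η₀⁻¹ * η₀) := by rw [inv_mul_cancel_right₀ hη₀]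
      _ = α (a * η₀⁻¹) * β η₀ := k1 _
      _ = α a := by rw [hmul', mul_assoc, h1, mul_one]
  refine ⟨AlgHom.ofLinearMap { toFun := α, map_add' := αadd, map_smul' := αsmul } α1 hmul', fun k => ⟨hα k, ?_⟩⟩
  show g (k • f) = α k • g f
  rw [hβ, hβα]

/-- Maps sending isotropic lines onto lines are semilinear. -/
theorem Setup.semilinear_of_lines (g : V ≃ₗ[F] V)
    (hL : ∀ v : V, v ≠ 0 → B v v = 0 → ∃ w, (line (F := F) K v).map (g : V →ₗ[F] V) = line K w) (k : K) :
    ∃ k' : K, ∀ y, g (k • y) = k' • g y := by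
  haveI : Finite K := Module.finite_of_finite F
  obtain ⟨v, u, hv0, hv, hvu, hu⟩ := hs.exists_isotropic_pair
  obtain ⟨ψ, hψ⟩ := hs.semilinear_pair g hL hv hu (by rw [hvu]; exact one_ne_zero)
  let S : Submodule K V :=
    { carrier := {y | ∀ k : K, g (k • y) = ψ k • g y}
      add_mem' := fun {a b} ha hb k => by rw [smul_add, map_add, ha, hb, map_add, smul_add]
      zero_mem' := fun k => by simp
      smul_mem' := fun d a ha k => by rw [smul_smul, ha, ha, smul_smul, map_mul] }
  have hvS : v ∈ S := fun k => (hψ k).1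
  have huS : u ∈ S := fun k => (hψ k).2
  have hpart : ∀ w, B w w = 0 → B v w ≠ 0 → w ∈ S := fun w hw hvw k => by
    obtain ⟨φ, hφ⟩ := hs.semilinear_pair g hL hv hw hvw
    have h1 : φ k • g v = ψ k • g v := by rw [← (hφ k).1, (hψ k).1]
    rw [(hφ k).2, smul_left_injective K (by simpa using hv0 : g v ≠ 0) h1]
  refine ⟨ψ k, fun y => ?_⟩
  suffices h : y ∈ S from h k
  set z := y - B u y • v - B v y • u with hz
  have huv : B u v = 1 := by rw [← hs.herm.symm, hvu, map_one]
  have hvz : B v z = 0 := by simp [hz, hv, hvu]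
  have huz : B u z = 0 := by simp [hz, hu, huv]
  obtain ⟨c, hc⟩ := hs.herm.invol.exists_trace_eq (μ := -B z z) (by rw [map_neg, hs.herm.self_fixed])
  have hw : u + z + c • v ∈ S := by
    refine hpart _ ?_ (by simp [hvu, hvz, hv])
    simp only [map_add, LinearMap.add_apply, smul_left, smul_right, hv, hu, huv, hvu, hvz, huz,
      hs.herm.eq_zero_symm hvz, hs.herm.eq_zero_symm huz]
    linear_combination hc
  have e : y = B u y • v + B v y • u + ((u + z + c • v) - u - c • v) := by rw [hz]; module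
  rw [e]
  exact S.add_mem (S.add_mem (S.smul_mem _ hvS) (S.smul_mem _ huS)) (S.sub_mem (S.sub_mem hw huS) (S.smul_mem _ hvS))

end CfsgLib.Geo.UnitFieldExt
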