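/-
Maximal triples on isotropic lines and their unipotents.
-/
import Cfsg.Agent.Lib.Geo.UnitFieldExt.Semilinear
import Cfsg.Agent.Lib.Geo.FieldExtMax
import Mathlib.FieldTheory.ChevalleyWarning

set_option autoImplicit false
set_option linter.unusedSectionVars false

namespace CfsgLib.Geo.UnitFieldExt

open Module CfsgLib.Classical CfsgLib.Classical.Herm CfsgLib.Geo.FieldExt

variable {F K V : Type*} [Field F] [Field K] [Algebra F K] [AddCommGroup V] [Module F V] [Module K V]
  [IsScalarTower F K V] {σ : F →+* F} {s : K →+* K}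

/-- The image of an isotropic line meets another one and is not a line. -/
structure ITrip (B : V →ₛₗ[s] V →ₗ[K] K) (X : Subgroup (V ≃ₗ[F] V)) (h : V ≃ₗ[F] V) (v v' : V) : Prop where
  mem : h ∈ X
  ne : v ≠ 0
  iso : B v v = 0
  ne' : v' ≠ 0
  iso' : B v' v' = 0
  meet : v' ∈ (line (F := F) K v).map (h : V →ₗ[F] V)
  not_line : ∀ w : V, (line (F := F) K v).map (h : V →ₗ[F] V) ≠ line K w

/-- The intersection is as large as possible. -/
structure IMax (B : V →ₛₗ[s] V →ₗ[K] K) (X : Subgroup (V ≃ₗ[F] V)) (h : V ≃ₗ[F] V) (v v' : V) : Prop where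
  trip : ITrip B X h v v'
  max : ∀ g u u', ITrip B X g u u' →
    finrank F ((line (F := F) K u).map (g : V →ₗ[F] V) ⊓ line K u' : Submodule F V) ≤
      finrank F ((line (F := F) K v).map (h : V →ₗ[F] V) ⊓ line K v' : Submodule F V)

variable [Finite F] [FiniteDimensional F K]

open MvPolynomial in
/-- Few quadratic maps have a common zero outside a set of size prime to the characteristic. -/
theorem exists_zero_of_bilin {F₀ P H : Type*} [Field F₀] [Finite F₀] [AddCommGroup P] [Module F₀ P]
    [FiniteDimensional F₀ P] [AddCommGroup H] [Module F₀ H] [FiniteDimensional F₀ H] (β : P →ₗ[F₀] P →ₗ[F₀] H)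
    (h : 2 * finrank F₀ H < finrank F₀ P) (Tr : Finset P) (hTr : ∀ x ∈ Tr, β x x = 0)
    (hn : ¬ ringChar F₀ ∣ Tr.card) : ∃ x, x ∉ Tr ∧ β x x = 0 := by
  classical
  haveI : Fintype F₀ := Fintype.ofFinite F₀
  let b := Module.finBasis F₀ P
  let c := Module.finBasis F₀ H
  let f : Fin (finrank F₀ H) → MvPolynomial (Fin (finrank F₀ P)) F₀ :=
    fun k => ∑ i, ∑ j, C (c.repr (β (b i) (b j)) k) * (X i * X j)
  have hdeg : ∀ k, (f k).totalDegree ≤ 2 := by
    intro k
    refine (totalDegree_finset_sum _ _).trans (Finset.sup_le fun i _ => ?_)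
    refine (totalDegree_finset_sum _ _).trans (Finset.sup_le fun l _ => ?_)
    refine (totalDegree_mul _ _).trans ?_
    rw [totalDegree_C, zero_add]
    refine (totalDegree_mul _ _).trans ?_
    rw [totalDegree_X, totalDegree_X]
  have heval : ∀ x k, eval x (f k) = c.repr (β (b.equivFun.symm x) (b.equivFun.symm x)) k := fun x k => by
    simp only [f, map_sum, map_mul, eval_C, eval_X, Module.Basis.equivFun_symm_apply, map_smul,
      LinearMap.sum_apply, LinearMap.smul_apply, Finsupp.coe_finset_sum, Finset.sum_apply, Finsupp.smul_apply,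
      smul_eq_mul, Finset.mul_sum]
    rw [Finset.sum_comm]
    refine Finset.sum_congr rfl fun i _ => Finset.sum_congr rfl fun j _ => ?_
    ring
  haveI : Fact (ringChar F₀).Prime := ⟨CharP.char_is_prime F₀ _⟩
  have hdvd := char_dvd_card_solutions_of_fintype_sum_lt (σ := Fin (finrank F₀ P)) (ringChar F₀) (f := f) (by
    refine lt_of_le_of_lt (Finset.sum_le_sum fun k _ => hdeg k) ?_
    simp
    omega)
  by_contra! hall
  refine hn ?_
  have hdvd' : ringChar F₀ ∣ Nat.card {x : Fin (finrank F₀ P) → F₀ // ∀ k, eval x (f k) = 0} := by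
    rw [Nat.card_eq_fintype_card]
    convert hdvd
  convert hdvd' using 1
  rw [← Finset.card_image_of_injective Tr b.equivFun.injective, ← Nat.card_eq_finsetCard]
  refine Nat.card_congr (Equiv.subtypeEquivRight fun x => ?_)
  simp only [heval, Finset.mem_image]
  constructor
  · rintro ⟨y, hy, rfl⟩ k
    rw [b.equivFun.symm_apply_apply, hTr y hy, map_zero, Finsupp.zero_apply]
  · intro hx
    refine ⟨b.equivFun.symm x, ?_, b.equivFun.apply_symm_apply x⟩
    by_contra hxT
    exact hall _ hxT (c.repr.injective (Finsupp.ext fun k => by rw [hx k, map_zero, Finsupp.zero_apply]))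

variable [FiniteDimensional K V] {μ : K →ₗ[F] F} {B : V →ₛₗ[s] V →ₗ[K] K} {X : Subgroup (V ≃ₗ[F] V)}
  (hs : Setup σ μ B X)
include hs

/-- A sesquilinear map into `ker μ` with fixed diagonal has many zeros. -/
theorem Setup.exists_zero {P : Type*} [AddCommGroup P] [Module F P] [FiniteDimensional F P]
    (γ : P →ₛₗ[σ] P →ₗ[F] K) (hdiag : ∀ x, s (γ x x) = γ x x) (hμ : ∀ x y, μ (γ x y) = 0)
    (hdim : finrank F K ≤ finrank F P) (Tr : Finset P) (hTr : ∀ x ∈ Tr, γ x x = 0)
    (hn : ¬ ringChar F ∣ Tr.card) : ∃ x, x ∉ Tr ∧ γ x x = 0 := by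
  classical
  haveI : Finite K := Module.finite_of_finite F
  haveI : Finite P := Module.finite_of_finite F
  set L := fixedSub σ
  haveI : FiniteDimensional L K := Module.Finite.of_finite
  haveI : FiniteDimensional L P := Module.Finite.of_finite
  haveI : FiniteDimensional L F := Module.Finite.of_finite
  have hsmul : ∀ (t : L) (x : K), s (t • x) = t • s x := fun t x => by
    show s ((t : F) • x) = (t : F) • s x
    rw [hs.pair.smul, show σ (t : F) = t from t.2]
  let Hf : Submodule L K :=
    { carrier := {x | s x = x}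
      add_mem' := fun {a b} (ha : s a = a) (hb : s b = b) => show s (a + b) = a + b by rw [map_add, ha, hb]
      zero_mem' := map_zero s
      smul_mem' := fun t x (hx : s x = x) => show s (t • x) = t • x by rw [hsmul, hx] }
  let H : Submodule L K :=
    { carrier := {x | s x = x ∧ μ x = 0}
      add_mem' := fun {a b} ha hb => ⟨by rw [map_add, ha.1, hb.1], by rw [map_add, ha.2, hb.2, add_zero]⟩
      zero_mem' := ⟨map_zero s, map_zero μ⟩
      smul_mem' := fun t x hx => ⟨by rw [hsmul, hx.1], by
        show μ ((t : F) • x) = 0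
        rw [map_smul, hx.2, smul_zero]⟩ }
  have hcard : finrank L Hf = finrank F K := by
    refine Nat.pow_right_injective (show 2 ≤ Nat.card L from IsInvol.card_ge_two) ?_
    show Nat.card L ^ finrank L Hf = Nat.card L ^ finrank F K
    rw [← Module.natCard_eq_pow_finrank, ← hs.pair.card_fixed]
    exact Nat.card_congr (Equiv.subtypeEquivRight fun x => Iff.rfl)
  have hlt : finrank L H < finrank F K := by
    rw [← hcard]
    refine Submodule.finrank_lt_finrank_of_lt (lt_of_le_of_ne (fun x hx => hx.1) fun e => ?_)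
    have h1 : (1 : K) ∈ H := e.symm ▸ (map_one s : (1 : K) ∈ Hf)
    exact one_ne_zero (h1.2.symm.trans hs.mu_one).symm
  have htwo : finrank L F = 2 := by
    refine Nat.pow_right_injective (show 2 ≤ Nat.card L from IsInvol.card_ge_two) ?_
    show Nat.card L ^ finrank L F = Nat.card L ^ 2
    rw [← Module.natCard_eq_pow_finrank, hs.pair.invol.card_sq]
  have hP : finrank L P = 2 * finrank F P := by rw [← htwo, Module.finrank_mul_finrank]
  obtain ⟨τ, hτ⟩ := hs.pair.invol.exists_trace_eq (μ := 1) (map_one σ)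
  let β₀ : P → P → H := fun x y => ⟨τ • γ x y + s (τ • γ x y),
    by rw [map_add, hs.pair.invol'.invol, add_comm],
    by rw [map_add, hs.mu_conj, map_smul, hμ, smul_zero, map_zero, add_zero]⟩
  let β : P →ₗ[L] P →ₗ[L] H := LinearMap.mk₂ L β₀
    (fun x x' y => Subtype.ext (by
      simp only [β₀, map_add, LinearMap.add_apply, smul_add, Submodule.coe_add]
      abel))
    (fun t x y => Subtype.ext (by
      simp only [β₀, Submodule.coe_smul, smul_add]
      rw [← IsScalarTower.algebraMap_smul F t x, LinearMap.map_smulₛₗ, LinearMap.smul_apply,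
        show σ (algebraMap L F t) = (t : F) from t.2]
      show τ • (t : F) • γ x y + s (τ • (t : F) • γ x y) = (t : F) • (τ • γ x y) + (t : F) • s (τ • γ x y)
      rw [smul_comm τ, hs.pair.smul (t : F), show σ (t : F) = t from t.2]))
    (fun x y y' => Subtype.ext (by
      simp only [β₀, map_add, smul_add, Submodule.coe_add]
      abel))
    (fun t x y => Subtype.ext (by
      simp only [β₀, Submodule.coe_smul, smul_add]
      rw [← IsScalarTower.algebraMap_smul F t y, map_smul]
      show τ • (t : F) • γ x y + s (τ • (t : F) • γ x y) = (t : F) • (τ • γ x y) + (t : F) • s (τ • γ x y)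
      rw [smul_comm τ, hs.pair.smul (t : F), show σ (t : F) = t from t.2]))
  have hββ : ∀ x, (β x x : K) = γ x x := fun x => by
    show τ • γ x x + s (τ • γ x x) = γ x x
    rw [hs.pair.smul, hdiag, ← add_smul, hτ, one_smul]
  have hchar : ringChar L = ringChar F := by
    haveI : CharP L (ringChar F) := (RingHom.charP_iff L.subtype Subtype.val_injective _).2 inferInstance
    exact ringChar.eq L _
  obtain ⟨x, hx, hx'⟩ := exists_zero_of_bilin β (by omega) Tr (fun x hx => Subtype.ext (by
    rw [hββ, hTr x hx, Submodule.coe_zero])) (by rwa [hchar])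
  exact ⟨x, hx, by rw [← hββ, hx', Submodule.coe_zero]⟩

omit [FiniteDimensional F K] [Finite F] in
theorem Setup.img_singular {h : V ≃ₗ[F] V} (hh : h ∈ X) {v : V} (hv : B v v = 0) {x y : V}
    (hx : x ∈ (line (F := F) K v).map (h : V →ₗ[F] V)) (hy : y ∈ (line (F := F) K v).map (h : V →ₗ[F] V)) :
    μ (B x y) = 0 := by
  obtain ⟨a, ha, rfl⟩ := hx
  obtain ⟨b, hb, rfl⟩ := hy
  obtain ⟨c, rfl⟩ := mem_line.1 ha
  obtain ⟨d, rfl⟩ := mem_line.1 hb
  show μ (B (h (c • v)) (h (d • v))) = 0
  rw [hs.preserves h hh]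
  simp [hv]

/-- Maximal triples exist outside the semilinear group. -/
theorem Setup.exists_imax {g : V ≃ₗ[F] V} (hg : g ∈ X) (hns : ¬ ∀ k : K, ∃ k' : K, ∀ y, g (k • y) = k' • g y) :
    ∃ h v v', IMax B X h v v' := by
  classical
  haveI : Module.Finite F V := Module.Finite.trans K V
  obtain ⟨v, hv, hvv, hline⟩ : ∃ v : V, v ≠ 0 ∧ B v v = 0 ∧
      ∀ w, (line (F := F) K v).map (g : V →ₗ[F] V) ≠ line K w := by
    by_contra! hall
    exact hns fun k => hs.semilinear_of_lines g hall k
  set W := (line (F := F) K v).map (g : V →ₗ[F] V)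
  let γ : W →ₛₗ[σ] W →ₗ[F] K := LinearMap.mk₂'ₛₗ σ (RingHom.id F) (fun x y => B (x : V) y)
    (fun x x' y => by simp) (fun c x y => by
      rw [Submodule.coe_smul, ← algebraMap_smul K c (x : V), smul_left, hs.pair.ext, Algebra.smul_def])
    (fun x y y' => by simp) (fun c x y => by
      rw [Submodule.coe_smul, LinearMap.map_smul_of_tower, RingHom.id_apply])
  obtain ⟨x, hx, hxx⟩ := hs.exists_zero γ (fun x => hs.herm.symm _ _) (fun x y => hs.img_singular hg hvv x.2 y.2)
    (finrank_img g hv).ge {0} (fun x hx => by simp [Finset.mem_singleton.1 hx]) (by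
      rw [Finset.card_singleton, Nat.dvd_one]
      exact CharP.ringChar_ne_one)
  have hx0 : (x : V) ≠ 0 := fun e => hx (Finset.mem_singleton.2 (Subtype.ext e))
  have ht : ITrip B X g v x := ⟨hg, hv, hvv, hx0, hxx, x.2, hline⟩
  let P : ℕ → Prop := fun j => ∃ k u u', ITrip B X k u u' ∧
    finrank F ((line (F := F) K u).map (k : V →ₗ[F] V) ⊓ line K u' : Submodule F V) = j
  have hb : ∀ j, P j → j ≤ finrank F K := by
    rintro j ⟨k, u, u', hk, rfl⟩
    exact (Submodule.finrank_mono inf_le_left).trans (finrank_img k hk.ne).le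
  have hP : P _ := ⟨g, v, x, ht, rfl⟩
  obtain ⟨k, u, u', hk, hkj⟩ := Nat.findGreatest_spec (hb _ hP) hP
  exact ⟨k, u, u', hk, fun g₂ u₂ u₂' h₂ =>
    (Nat.le_findGreatest (hb _ ⟨g₂, u₂, u₂', h₂, rfl⟩) ⟨g₂, u₂, u₂', h₂, rfl⟩).trans_eq hkj.symm⟩

variable {h : V ≃ₗ[F] V} {v v' : V}

/-- A unipotent stabilising the line of `v'`, with all its multiples by fixed scalars. -/
theorem Setup.exists_eta (ht : IMax B X h v v') :
    ∃ η : V →ₗ[F] V, Eta K X h v v' η ∧ ∀ t : F, σ t = t → U X (t • η) := by
  classical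
  haveI : Module.Finite F V := Module.Finite.trans K V
  haveI : Finite K := Module.finite_of_finite F
  obtain ⟨hh, hv, hvv, hv', hv'v', hmem, hns⟩ := ht.trip
  set W := (line (F := F) K v).map (h : V →ₗ[F] V) with hW
  have hA0 : coef (F := F) K h v v' ≠ ⊥ := fun e => one_ne_zero ((Submodule.mem_bot F).1 (e ▸
    (show (1 : K) ∈ coef (F := F) K h v v' by rw [mem_coef, one_smul]; exact hmem)))
  have hAt : coef (F := F) K h v v' ≠ ⊤ := by
    intro e
    refine hns v' (Submodule.eq_of_le_of_finrank_le ?_ ?_).symm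
    · intro x hx
      obtain ⟨c, rfl⟩ := mem_line.1 hx
      exact mem_coef.1 (e ▸ Submodule.mem_top)
    · rw [finrank_img h hv, finrank_line hv']
  let ψ : K →ₗ[F] K := ((B v).restrictScalars F).comp
    ((h.symm : V →ₗ[F] V).comp ((LinearMap.toSpanSingleton K V v').restrictScalars F))
  have hψA : ∀ c ∈ coef (F := F) K h v v', ψ c = 0 := by
    intro c hc
    obtain ⟨y, hy, e⟩ := mem_coef.1 hc
    obtain ⟨d, rfl⟩ := mem_line.1 hy
    show B v (h.symm (c • v')) = 0
    rw [← e, LinearEquiv.coe_coe, h.symm_apply_apply, map_smul, hvv, smul_zero]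
  obtain ⟨k, c, hk, hk0, hc, hkT⟩ : ∃ k c : K, k + s k = 0 ∧ k ≠ 0 ∧ c ∉ coef (F := F) K h v v' ∧
      h ((k * ψ c) • v) ∈ line (F := F) K v' := by
    obtain ⟨θ, hθ, hθ'⟩ := hs.pair.invol'.exists_skew
    by_cases hker : ∃ c, c ∉ coef (F := F) K h v v' ∧ ψ c = 0
    · obtain ⟨c, hc, hc'⟩ := hker
      exact ⟨θ, c, by rw [hθ', add_neg_cancel], hθ, hc, by simp [hc']⟩
    push Not at hker
    have hker : LinearMap.ker ψ = coef (F := F) K h v v' := by
      ext c
      exact ⟨fun hc => by_contra fun hn => hker c hn hc, hψA c⟩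
    let A' : Submodule F K :=
      (line (F := F) K v').comap ((h : V →ₗ[F] V).comp ((LinearMap.toSpanSingleton K V v).restrictScalars F))
    have hA' : finrank F A' = finrank F (coef (F := F) K h v v') := by
      have hinj : Function.Injective ((h : V →ₗ[F] V).comp ((LinearMap.toSpanSingleton K V v).restrictScalars F)) :=
        h.injective.comp (fun a b e => smul_left_injective K hv e)
      rw [finrank_coef hv', (Submodule.equivMapOfInjective _ hinj A').finrank_eq, Submodule.map_comap_eq,
        LinearMap.range_comp]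
      rw [show LinearMap.range ((LinearMap.toSpanSingleton K V v).restrictScalars F) = line K v by
        ext x
        rw [mem_line]
        rfl]
    have hdual : ∀ a ∈ A', ∀ p ∈ LinearMap.range ψ, μ (s a * p) = 0 := by
      rintro a ha _ ⟨e, rfl⟩
      obtain ⟨d, hd⟩ := mem_line.1 (show h (a • v) ∈ line (F := F) K v' from ha)
      show μ (s a * B v (h.symm (e • v'))) = 0
      rw [← smul_left, ← hs.preserves h hh, h.apply_symm_apply, ← hd]
      simp [hv'v']
    let P := LinearMap.range ψ
    let γ : (P × A') →ₛₗ[σ] (P × A') →ₗ[F] K := LinearMap.mk₂'ₛₗ σ (RingHom.id F)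
      (fun x y => s (x.2 : K) * (y.1 : K) + s (x.1 : K) * (y.2 : K))
      (fun x x' y => by simp [add_mul]; abel) (fun c x y => by simp [hs.pair.smul, smul_add])
      (fun x y y' => by simp [mul_add]; abel) (fun c x y => by simp [smul_add])
    haveI : Fintype P := Fintype.ofFinite _
    haveI : Fintype A' := Fintype.ofFinite _
    let T₁ : Finset (P × A') := Finset.univ.filter fun x => x.1 = 0
    let T₂ : Finset (P × A') := Finset.univ.filter fun x => x.2 = 0
    obtain ⟨x, hx, hxx⟩ := hs.exists_zero γ (fun x => by simp [γ, hs.pair.invol'.invol]; ring)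
      (fun x y => by
        show μ (_ + _) = 0
        rw [map_add, hdual _ x.2.2 _ y.1.2, zero_add, ← hs.pair.invol'.invol (y.2 : K), ← map_mul, hs.mu_conj,
          mul_comm, hdual _ y.2.2 _ x.1.2, map_zero])
      (by
        have h1 := LinearMap.finrank_range_add_finrank_ker ψ
        rw [hker] at h1
        rw [Module.finrank_prod, hA']
        exact h1.ge)
      (T₁ ∪ T₂) (fun x hx => by
        rcases Finset.mem_union.1 hx with h1 | h1 <;> simp [γ, T₁, T₂] at h1 ⊢ <;> simp [h1])
      (by
        have hq : ringChar F ∣ Nat.card F := by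
          haveI := Fintype.ofFinite F
          rw [Nat.card_eq_fintype_card]
          exact (CharP.cast_eq_zero_iff F (ringChar F) _).1 (FiniteField.cast_card_eq_zero F)
        have h1 : T₁.card = Nat.card A' := by
          rw [← Nat.card_eq_finsetCard]
          exact Nat.card_congr
            { toFun := fun x => x.1.2
              invFun := fun a => ⟨(0, a), by simp [T₁]⟩
              left_inv := fun x => by
                obtain ⟨⟨p, a⟩, hx⟩ := x
                simp [T₁] at hx
                simp [hx]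
              right_inv := fun a => rfl }
        have h2 : T₂.card = Nat.card P := by
          rw [← Nat.card_eq_finsetCard]
          exact Nat.card_congr
            { toFun := fun x => x.1.1
              invFun := fun a => ⟨(a, 0), by simp [T₂]⟩
              left_inv := fun x => by
                obtain ⟨⟨p, a⟩, hx⟩ := x
                simp [T₂] at hx
                simp [hx]
              right_inv := fun a => rfl }
        have h3 : (T₁ ∩ T₂).card = 1 := by
          rw [Finset.card_eq_one]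
          exact ⟨0, by ext x; simp [T₁, T₂, Prod.ext_iff]⟩
        have hd : ∀ S : Submodule F K, S ≠ ⊥ → ringChar F ∣ Nat.card S := fun S hS => by
          rw [Module.natCard_eq_pow_finrank (K := F)]
          exact hq.trans (dvd_pow_self _ (fun e => hS (Submodule.finrank_eq_zero.1 e)))
        have hP0 : P ≠ ⊥ := fun e => hAt (by
          rw [← hker]
          exact LinearMap.ker_eq_top.2 (LinearMap.range_eq_bot.1 e))
        have hA'0 : A' ≠ ⊥ := fun e => hA0 (Submodule.finrank_eq_zero.1 (by rw [← hA', e, finrank_bot]))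
        have h4 := Finset.card_union_add_card_inter T₁ T₂
        rw [h1, h2, h3] at h4
        intro hdvd
        have h5 : ringChar F ∣ (T₁ ∪ T₂).card + 1 := h4 ▸ dvd_add (hd A' hA'0) (hd P hP0)
        exact CharP.ringChar_ne_one (Nat.dvd_one.1 ((Nat.dvd_add_right hdvd).1 h5)))
    obtain ⟨⟨p, hp⟩, ⟨a, ha⟩⟩ := x
    simp [T₁, T₂] at hx
    obtain ⟨hp0, ha0⟩ := hx
    obtain ⟨c, rfl⟩ := hp
    refine ⟨a / ψ c, c, ?_, div_ne_zero ha0 hp0, fun hc => hp0 (hψA c hc), by rw [div_mul_cancel₀ _ hp0]; exact ha⟩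
    have hsp : s (ψ c) ≠ 0 := fun e => hp0 (IsInvol.apply_eq_zero_iff.1 e)
    have e : s a * ψ c + s (ψ c) * a = 0 := hxx
    rw [map_div₀, div_add_div _ _ hp0 hsp, div_eq_zero_iff]
    exact Or.inl (by linear_combination e)
  let η : V →ₗ[F] V := (h : V →ₗ[F] V).comp ((root v (B v) (mulL k)).comp (h.symm : V →ₗ[F] V))
  have hη : ∀ y, η y = h ((k * B v (h.symm y)) • v) := fun y => rfl
  have hU : ∀ t : F, σ t = t → U X (t • η) := fun t htσ => by
    have hkt : t • k + s (t • k) = 0 := by rw [hs.pair.smul, htσ, ← smul_add, hk, smul_zero]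
    refine ((hs.rs_mul hkt v hvv).conj hh).congr fun y => ?_
    simp [η, smul_assoc]
  obtain ⟨x, hx, hx₁⟩ : U X η := by simpa using hU 1 (map_one σ)
  have hrange : LinearMap.range η = W := by
    obtain ⟨u, hvu, -⟩ := hs.herm.exists_isotropic_partner hv hvv
    ext z
    constructor
    · rintro ⟨y, rfl⟩
      rw [hη]
      exact Submodule.mem_map_of_mem (mem_line.2 ⟨_, rfl⟩)
    · rintro ⟨w, hw, rfl⟩
      obtain ⟨d, rfl⟩ := mem_line.1 hw
      refine ⟨h ((d / k) • u), ?_⟩
      rw [hη, h.symm_apply_apply, (B v).map_smul, hvu, smul_eq_mul, mul_one, mul_div_cancel₀ _ hk0]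
      rfl
  have hzero : ∀ z ∈ W, η z = 0 := by
    rintro _ ⟨w, hw, rfl⟩
    obtain ⟨d, rfl⟩ := mem_line.1 hw
    simp [hη, hvv]
  refine ⟨η, ⟨⟨x, hx, hx₁⟩, hrange, hzero, ?_⟩, hU⟩
  have hxA : ∀ z ∈ W, x z = z := fun z hz => by rw [hx₁, hzero z hz, add_zero]
  by_cases hl : ∃ w, (line (F := F) K v').map (x : V →ₗ[F] V) = line K w
  · obtain ⟨w, hw⟩ := hl
    have h1 : v' ∈ line (F := F) K w := hw ▸ ⟨v', self_mem_line v', hxA v' hmem⟩
    rw [← line_eq h1 hv'] at hw
    intro z hz
    have h2 : x z ∈ line (F := F) K v' := hw ▸ Submodule.mem_map_of_mem hz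
    have h3 := sub_mem h2 hz
    rwa [hx₁, add_sub_cancel_left] at h3
  · exfalso
    push Not at hl
    have htrip : ITrip B X x v' v' := ⟨hx, hv', hv'v', hv', hv'v', ⟨v', self_mem_line v', hxA v' hmem⟩, hl⟩
    have hxc : x (c • v') ∈ line (F := F) K v' := by
      rw [hx₁]
      exact add_mem (mem_line.2 ⟨c, rfl⟩) hkT
    set A₁ := (W ⊓ line (F := F) K v') ⊔ Submodule.span F {x (c • v')}
    have hle : A₁ ≤ (line (F := F) K v').map (x : V →ₗ[F] V) ⊓ line K v' := by
      refine sup_le (fun z hz => ⟨⟨z, hz.2, hxA z hz.1⟩, hz.2⟩) ?_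
      rw [Submodule.span_le, Set.singleton_subset_iff]
      exact ⟨Submodule.mem_map_of_mem (mem_line.2 ⟨c, rfl⟩), hxc⟩
    have hlt : finrank F (W ⊓ line (F := F) K v' : Submodule F V) < finrank F A₁ := by
      refine Submodule.finrank_lt_finrank_of_lt (lt_of_le_of_ne le_sup_left fun e' => hc ?_)
      have h1 : x (c • v') ∈ W := ((e'.symm ▸ Submodule.mem_sup_right (Submodule.mem_span_singleton_self _) :
        x (c • v') ∈ W ⊓ line (F := F) K v')).1
      have h2 : η (c • v') ∈ W := hrange ▸ LinearMap.mem_range_self η (c • v')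
      rw [hx₁] at h1
      exact mem_coef.2 ((Submodule.add_mem_iff_left _ h2).1 h1)
    exact absurd (ht.max x v' v' htrip) (not_le.2 (hlt.trans_le (Submodule.finrank_mono hle)))

end CfsgLib.Geo.UnitFieldExt
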