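/-
Overgroups outside the semilinear group contain the transvections over the smaller field.
-/
import Cfsg.Agent.Lib.Geo.UnitFieldExt.Triple
import Cfsg.Agent.Lib.Geo.UnitFieldExt.Coeff

set_option autoImplicit false
set_option linter.unusedSectionVars false

namespace CfsgLib.Geo.UnitFieldExt

open Module CfsgLib.Classical CfsgLib.Classical.Herm CfsgLib.Geo.FieldExt

variable {F K V : Type*} [Field F] [Field K] [Algebra F K] [AddCommGroup V] [Module F V] [Module K V]
  [IsScalarTower F K V] {σ : F →+* F} {s : K →+* K} [Finite F] [FiniteDimensional F K] [FiniteDimensional K V]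
  {μ : K →ₗ[F] F} {B : V →ₛₗ[s] V →ₗ[K] K} {X : Subgroup (V ≃ₗ[F] V)} (hs : Setup σ μ B X)
include hs

variable {h : V ≃ₗ[F] V} {v v' : V} {η : V →ₗ[F] V}

/-- The commutator of a root element on the line of `v'` with `η`. -/
theorem Setup.rs_comCoef (hh : h ∈ X) (hv : B v v = 0) (hv'0 : v' ≠ 0) (hv' : B v' v' = 0) (hU : U X η)
    (hη : ∀ y, η y ∈ (line (F := F) K v).map (h : V →ₗ[F] V)) (hsq : ∀ y, η (η y) = 0)
    (hst : ∀ x ∈ line (F := F) K v', η x ∈ line (F := F) K v') {u : V} (hu : B v' u = 1)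
    {lam Q S : K →ₗ[F] K} (hlam : ∀ c, lam c • v' = η (c • v')) (hQ : ∀ c, Q c = B v' (η (c • u)))
    (hS : RS B X S) : RS B X (comCoef lam Q S) := by
  set α := root v' (B v') S
  have hαα : ∀ y, α (α y) = 0 := fun y => by simp [α, hv']
  have hαL : ∀ c : K, α (c • v') = 0 := fun c => by simp [α, hv']
  have hηα : ∀ y, η (α y) = lam (S (B v' y)) • v' := fun y => by rw [hlam]; rfl
  have hαηα : ∀ y, α (η (α y)) = 0 := fun y => by rw [hηα, hαL]
  let ζ : V →ₗ[F] V := η.comp α - α.comp η - η.comp (α.comp η)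
  have hζ : U X ζ := U.commutator (T := η) (S := α) hU (hS v' hv') hsq hαα fun y => by simp [ζ, hαηα]
  have hζu : ∀ c : K, ζ (c • u) = comCoef lam Q S c • v' := fun c => by
    have hαc : ∀ y, α y = S (B v' y) • v' := fun y => rfl
    simp only [ζ, LinearMap.sub_apply, LinearMap.comp_apply, hηα, comCoef_apply, sub_smul]
    rw [hαc (η (c • u)), ← hQ, map_smul, hu, smul_eq_mul, mul_one]
  have hζL : ∀ c : K, ζ (c • v') = 0 := fun c => by simp [ζ, hαL, ← hlam, hv']
  have hζim : ∀ y, ∃ d : K, d • v' = ζ y := fun y => mem_line.1 (by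
    have hα : ∀ z, α z ∈ line (F := F) K v' := fun z => mem_line.2 ⟨_, rfl⟩
    exact sub_mem (sub_mem (hst _ (hα _)) (hα _)) (hst _ (hα _)))
  have hperp : ∀ y, B v' y = 0 → ζ y = 0 := by
    intro y hy
    obtain ⟨d, hd⟩ := hζim y
    rw [← hd]
    have hd0 : s d = 0 := hs.eq_zero_of_mu fun e => by
      have h1 := hs.unipotent_skew hζ (fun x z => by
        obtain ⟨a, ha⟩ := hζim x
        obtain ⟨b, hb⟩ := hζim z
        simp [← ha, ← hb, hv']) y (e • u)
      obtain ⟨b, hb⟩ := hζim (e • u)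
      simp only [← hd, ← hb, map_smul, LinearMap.map_smulₛₗ, LinearMap.smul_apply, smul_eq_mul, hu,
        hs.herm.eq_zero_symm hy, mul_one, mul_zero, map_zero, add_zero] at h1
      rwa [mul_comm]
    rw [IsInvol.apply_eq_zero_iff.1 hd0, zero_smul]
  refine hs.rs_of_root hv'0 hv' (hζ.congr fun y => ?_)
  have h1 := hperp (y - B v' y • u) (by simp [hu])
  rw [map_sub, sub_eq_zero] at h1
  rw [h1, hζu]
  rfl

/-- The coefficient data of the maximal unipotent, when it moves the line of `v'`. -/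
theorem Setup.exists_data (ht : IMax B X h v v') (he : Eta K X h v v' η) (hU : ∀ t : F, σ t = t → U X (t • η))
    {c₁ : K} (hc₁ : η (c₁ • v') ≠ 0) : ∃ (lam Q : K →ₗ[F] K) (A : Submodule F K) (c₂ : K), (1 : K) ∈ A ∧ A ≠ ⊤ ∧
      (∀ c, lam c ∈ A) ∧ (∀ c ∈ A, lam c = 0) ∧ finrank F (LinearMap.range Q) + finrank F A ≤ finrank F K ∧
      Q 1 ≠ 0 ∧ lam c₂ = 1 ∧ (∀ c d, μ (s (lam c) * d) + μ (s c * Q d) = 0) ∧
      ∀ t : F, σ t = t → ∀ L ∈ RF B X, comCoef (t • lam) (t • Q) L ∈ RF B X := by
  classical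
  haveI : Module.Finite F V := Module.Finite.trans K V
  obtain ⟨hh, hv, hvv, hv', hv'v', -, hns⟩ := ht.trip
  -- renormalise
  have hl : η (c₁ • v') ∈ line (F := F) K v' := he.stable _ (mem_line.2 ⟨c₁, rfl⟩)
  set v'' := η (c₁ • v')
  obtain ⟨b, hb⟩ := mem_line.1 hl
  have hb0 : b ≠ 0 := fun e => hc₁ (by rw [← hb, e, zero_smul])
  have hv''v'' : B v'' v'' = 0 := by rw [← hb]; simp [hv'v']
  have hst : ∀ x ∈ line (F := F) K v'', η x ∈ line (F := F) K v'' := fun x hx => by
    rw [line_eq hl hc₁] at hx ⊢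
    exact he.stable x hx
  have hηW : ∀ y, η y ∈ (line (F := F) K v).map (h : V →ₗ[F] V) := fun y => he.range ▸ LinearMap.mem_range_self η y
  obtain ⟨u, hu, -⟩ := hs.herm.exists_isotropic_partner hc₁ hv''v''
  obtain ⟨π, hπ⟩ := exists_functional' (K := K) hc₁
  let lam : K →ₗ[F] K :=
    (π.restrictScalars F).comp (η.comp ((LinearMap.toSpanSingleton K V v'').restrictScalars F))
  have hlam : ∀ c, lam c • v'' = η (c • v'') := fun c => by
    obtain ⟨d, hd⟩ := mem_line.1 (hst _ (mem_line.2 ⟨c, rfl⟩))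
    show π (η (c • v'')) • v'' = _
    rw [← hd, map_smul, hπ, smul_eq_mul, mul_one]
  let Q : K →ₗ[F] K :=
    ((B v'').restrictScalars F).comp (η.comp ((LinearMap.toSpanSingleton K V u).restrictScalars F))
  have hQ : ∀ c, Q c = B v'' (η (c • u)) := fun c => rfl
  have hc₂ : lam (c₁ / b) = 1 := smul_left_injective K hc₁ (show lam (c₁ / b) • v'' = (1 : K) • v'' from by
    rw [one_smul, hlam, ← hb, smul_smul, div_mul_cancel₀ _ hb0, hb])
  have huv : B u v'' = 1 := by rw [← hs.herm.symm, hu, map_one]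
  have hQ1 : Q 1 ≠ 0 := fun e => by
    have h1 := hs.unipotent_skew he.mem (fun x y => hs.img_singular hh hvv (hηW x) (hηW y)) ((c₁ / b) • v'') u
    rw [hQ, one_smul] at e
    rw [← hlam, hc₂, one_smul, hu, smul_left, e, mul_zero, map_zero, add_zero, hs.mu_one] at h1
    exact one_ne_zero h1
  have hcom : ∀ t : F, σ t = t → ∀ L ∈ RF B X, comCoef (t • lam) (t • Q) L ∈ RF B X := by
    intro t ht L hL
    induction hL using Submodule.span_induction with
    | mem S hS =>
      exact RS.mem_rf (hs.rs_comCoef hh hvv hc₁ hv''v'' (hU t ht)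
        (fun y => by rw [LinearMap.smul_apply]; exact Submodule.smul_mem _ t (hηW y))
        (fun y => by simp [he.sq])
        (fun x hx => by rw [LinearMap.smul_apply]; exact Submodule.smul_mem _ t (hst x hx)) hu
        (fun c => by rw [LinearMap.smul_apply, smul_assoc, hlam, LinearMap.smul_apply])
        (fun c => by rw [LinearMap.smul_apply, hQ, LinearMap.smul_apply, (B v'').map_smul_of_tower]) hS)
    | zero => convert (RF B X).zero_mem; exact LinearMap.ext fun x => by simp
    | add L L' _ _ h h' =>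
      convert (RF B X).add_mem h h' using 1
      refine LinearMap.ext fun x => ?_
      simp only [comCoef_apply, LinearMap.add_apply, map_add]
      abel
    | smul c L _ h =>
      convert (RF B X).smul_mem c h using 1
      refine LinearMap.ext fun x => ?_
      simp only [comCoef_apply, LinearMap.smul_apply, map_smul, smul_sub]
      module
  have hskew : ∀ c d, μ (s (lam c) * d) + μ (s c * Q d) = 0 := fun c d => by
    have h1 := hs.unipotent_skew he.mem (fun x y => hs.img_singular hh hvv (hηW x) (hηW y)) (c • v'') (d • u)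
    rw [← hlam, smul_left, smul_left, map_smul, hu, smul_eq_mul, mul_one, ← hQ] at h1
    exact h1
  set A := coef (F := F) K h v v''
  have h1A : (1 : K) ∈ A := by
    rw [mem_coef, one_smul]
    exact hηW _
  have hA : A ≠ ⊤ := fun e => hns v'' (Submodule.eq_of_le_of_finrank_le (fun x hx => by
    obtain ⟨c, rfl⟩ := mem_line.1 hx
    exact mem_coef.1 (e.symm ▸ Submodule.mem_top : c ∈ A)) (by rw [finrank_img h hv, finrank_line hc₁])).symm
  refine ⟨lam, Q, A, c₁ / b, h1A, hA, fun c => by rw [mem_coef, hlam]; exact hηW _, fun c hc => ?_, ?_, hQ1, hc₂,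
    hskew, hcom⟩
  · exact (smul_eq_zero.1 ((hlam c).trans (he.zero _ (mem_coef.1 hc)))).resolve_right hc₁
  set W := (line (F := F) K v).map (h : V →ₗ[F] V)
  have h4 : finrank F (LinearMap.range Q) ≤ finrank F (W.map ((B v'').restrictScalars F)) :=
    Submodule.finrank_mono (by rintro _ ⟨c, rfl⟩; exact ⟨_, hηW _, rfl⟩)
  have h5 := LinearMap.finrank_range_add_finrank_ker (((B v'').restrictScalars F).comp W.subtype)
  rw [LinearMap.range_comp, Submodule.range_subtype, finrank_img h hv] at h5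
  have h6 : finrank F A ≤ finrank F (LinearMap.ker (((B v'').restrictScalars F).comp W.subtype)) := by
    rw [finrank_coef hc₁, ← (Submodule.comapSubtypeEquivOfLe (inf_le_left :
      W ⊓ line (F := F) K v'' ≤ W)).finrank_eq]
    refine Submodule.finrank_mono fun x hx => ?_
    obtain ⟨c, hc⟩ := mem_line.1 (Submodule.mem_comap.1 hx).2
    show B v'' x.1 = 0
    rw [show x.1 = c • v'' from hc.symm, map_smul, hv''v'', smul_zero]
  omega

/-- A member of rank at most two, when the maximal unipotent moves the line of `v'` and the field is not least. -/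
theorem Setup.exists_small (hq : 3 ≤ Nat.card (fixedSub σ)) (ht : IMax B X h v v') (he : Eta K X h v v' η)
    (hU : ∀ t : F, σ t = t → U X (t • η)) {c₁ : K} (hc₁ : η (c₁ • v') ≠ 0) :
    ∃ L ∈ RF B X, L ≠ 0 ∧ 2 * finrank F (LinearMap.range L) ≤ finrank F K := by
  classical
  obtain ⟨lam, Q, A, c₂, -, -, hlA, -, hQA, hQ1, hc₂, -, hcom⟩ := hs.exists_data ht he hU hc₁
  obtain ⟨t, htσ, ht0, ht1⟩ : ∃ t : F, σ t = t ∧ t ≠ 0 ∧ t ≠ 1 := by
    haveI := Fintype.ofFinite (fixedSub σ)
    obtain ⟨t, -, ht⟩ := Finset.exists_mem_notMem_of_card_lt_card (s := ({0, 1} : Finset (fixedSub σ)))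
      (t := Finset.univ) (lt_of_le_of_lt Finset.card_le_two (by
        rw [Finset.card_univ, ← Nat.card_eq_fintype_card]
        omega))
    simp only [Finset.mem_insert, Finset.mem_singleton, not_or] at ht
    exact ⟨t, t.2, fun e => ht.1 (Subtype.ext e), fun e => ht.2 (Subtype.ext e)⟩
  set k := (Q 1)⁻¹ * c₂
  set T := lam.comp ((mulL k).comp Q)
  have hT : T ∈ RF B X := by
    have h1 := hcom 1 (map_one σ) _ (hs.mulL_mem_rf k)
    have h2 := hcom t htσ _ (hs.mulL_mem_rf k)
    have h0 : t * t - t ≠ 0 := by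
      rw [show t * t - t = t * (t - 1) by ring]
      exact mul_ne_zero ht0 (sub_ne_zero.2 ht1)
    have e : (t * t - t) • T = t • comCoef ((1 : F) • lam) ((1 : F) • Q) (mulL k) -
        comCoef (t • lam) (t • Q) (mulL k) := by
      refine LinearMap.ext fun x => ?_
      simp only [T, comCoef_apply, LinearMap.smul_apply, LinearMap.sub_apply, LinearMap.comp_apply, mulL_apply,
        one_smul, mul_smul_comm, map_smul, sub_smul, smul_sub, mul_smul]
      abel
    rw [← inv_smul_smul₀ h0 T, e]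
    exact (RF B X).smul_mem _ ((RF B X).sub_mem ((RF B X).smul_mem _ h1) h2)
  refine ⟨T, hT, fun e => ?_, ?_⟩
  · have h1 : lam (k * Q 1) = 0 := congrFun (congrArg DFunLike.coe e) 1
    rw [show k * Q 1 = c₂ by rw [mul_comm, mul_inv_cancel_left₀ hQ1], hc₂] at h1
    exact one_ne_zero h1
  · have h7 : finrank F (LinearMap.range T) ≤ finrank F A :=
      Submodule.finrank_mono ((LinearMap.range_comp_le_range _ _).trans (by rintro _ ⟨c, rfl⟩; exact hlA c))
    have h8 : finrank F (LinearMap.range T) ≤ finrank F (LinearMap.range Q) := by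
      rw [show T = (lam.comp (mulL k)).comp Q from rfl, LinearMap.range_comp]
      exact Submodule.finrank_map_le _ _
    omega

/-- A member of rank at most one, when the maximal unipotent moves the line of `v'`. -/
theorem Setup.exists_rankOne (h3 : finrank F K = 3) (hq : 3 ≤ Nat.card (fixedSub σ)) (ht : IMax B X h v v')
    (he : Eta K X h v v' η) (hU : ∀ t : F, σ t = t → U X (t • η)) {c₁ : K} (hc₁ : η (c₁ • v') ≠ 0) :
    ∃ L ∈ RF B X, L ≠ 0 ∧ finrank F (LinearMap.range L) ≤ 1 := by
  obtain ⟨L, hL, hL0, hrk⟩ := hs.exists_small hq ht he hU hc₁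
  exact ⟨L, hL, hL0, by omega⟩

/-- In dimension two the maximal unipotent moves the line of `v'`. -/
theorem Setup.exists_moved (hm : finrank K V = 2) (ht : IMax B X h v v') (he : Eta K X h v v' η) :
    ∃ c : K, η (c • v') ≠ 0 := by
  obtain ⟨hh, hv, hvv, hv', hv'v', -, hns⟩ := ht.trip
  by_contra! hall
  have hker : LinearMap.ker (B v') = Submodule.span K {v'} := by
    refine (Submodule.eq_of_le_of_finrank_le ((Submodule.span_singleton_le_iff_mem _ _).2 hv'v') ?_).symm
    have h1 := LinearMap.finrank_range_add_finrank_ker (B v')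
    obtain ⟨u, hu⟩ := hs.herm.exists_apply_eq_one hv'
    rw [LinearMap.range_eq_top.2 (fun a => ⟨a • u, by rw [map_smul, hu, smul_eq_mul, mul_one]⟩), finrank_top,
      Module.finrank_self, hm] at h1
    rw [finrank_span_singleton hv']
    omega
  haveI : Module.Finite F V := Module.Finite.trans K V
  refine hns v' (Submodule.eq_of_le_of_finrank_le (fun x hx => ?_) (by rw [finrank_img h hv, finrank_line hv']))
  obtain ⟨y, rfl⟩ := (he.range.ge hx : x ∈ LinearMap.range η)
  have hW : ∀ z, η z ∈ (line (F := F) K v).map (h : V →ₗ[F] V) := fun z => he.range ▸ LinearMap.mem_range_self η z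
  have h0 : B (η y) v' = 0 := hs.eq_zero_of_mu fun c => by
    have h1 := hs.unipotent_skew he.mem (fun a b => hs.img_singular hh hvv (hW a) (hW b)) y (c • v')
    rw [hall, map_zero, map_zero, add_zero, map_smul, smul_eq_mul] at h1
    rwa [mul_comm]
  rw [line, Submodule.restrictScalars_mem, ← hker, LinearMap.mem_ker]
  exact hs.herm.eq_zero_symm h0

/-- All transvections over the smaller field. -/
theorem Setup.transvection_all {L : K →ₗ[F] K} (hL : L ∈ RF B X) (hL0 : L ≠ 0)
    (hrk : finrank F (LinearMap.range L) ≤ 1) (w : V) (hw : μ (B w w) = 0) {c : F} (hc : c + σ c = 0) :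
    U X (c • (μ.comp ((B w).restrictScalars F)).smulRight w) := by
  haveI : Finite K := Module.finite_of_finite F
  have hiso : ∀ (w : V), B w w = 0 → ∀ {c : F}, c + σ c = 0 →
      U X (c • (μ.comp ((B w).restrictScalars F)).smulRight w) := fun w hw c hc =>
    ((hs.rs_dy hL hL0 hrk hc) w hw).congr fun y => by simp [smul_assoc]
  rcases eq_or_ne (B w w) 0 with h0 | h0
  · exact hiso w h0 hc
  set ν := B w w
  obtain ⟨θ, hθ0, hθ⟩ := hs.pair.invol.exists_skew
  have hsν : s ν = ν := hs.herm.self_fixed w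
  obtain ⟨z, hz, hz0⟩ : ∃ z : K, z + s z = ν ∧ μ z ≠ 0 := by
    obtain ⟨z, hz⟩ := hs.pair.invol'.exists_trace_eq hsν
    rcases eq_or_ne (μ z) 0 with h1 | h1
    · refine ⟨z + θ • 1, ?_, by rw [map_add, h1, zero_add, map_smul, hs.mu_one, smul_eq_mul, mul_one]; exact hθ0⟩
      rw [map_add, hs.pair.smul, map_one, hθ, neg_smul, ← hz]
      abel
    · exact ⟨z, hz, h1⟩
  obtain ⟨p, f, -, hp, hpf, hf⟩ := hs.exists_isotropic_pair
  have hfp : B f p = 1 := by rw [← hs.herm.symm, hpf, map_one]
  have hxx : B (p + z • f) (p + z • f) = ν := by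
    simp only [map_add, LinearMap.add_apply, smul_left, smul_right, hp, hf, hpf, hfp]
    linear_combination hz
  obtain ⟨g, hg⟩ := hs.herm.exists_map_of_anisotropic (by rw [hxx]; exact h0) hxx
  set x := (g : V ≃ₗ[K] V) p
  set y := (g : V ≃ₗ[K] V) (z • f)
  have hw' : w = x + y := by rw [← hg, map_add]
  have hxx' : B x x = 0 := (HU.map_eq g p p).trans hp
  have hyy : B y y = 0 := (HU.map_eq g _ _).trans (by simp [hf])
  have hxy : μ (B x y) = μ z := congrArg μ ((HU.map_eq g _ _).trans (by rw [map_smul, hpf, smul_eq_mul, mul_one]))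
  have hez : μ z + σ (μ z) = 0 := by rw [← hs.mu_conj, ← map_add, hz, hw]
  have hc' : (μ z)⁻¹ + σ (μ z)⁻¹ = 0 := by
    rw [map_inv₀, eq_neg_of_add_eq_zero_right hez, inv_neg, add_neg_cancel]
  obtain ⟨t, ht, ht'⟩ := hiso x hxx' hc'
  have hty : t y = w := by
    rw [ht', LinearMap.smul_apply, LinearMap.smulRight_apply, LinearMap.comp_apply]
    show y + (μ z)⁻¹ • (μ (B x y) • x) = w
    rw [hxy, inv_smul_smul₀ hz0, hw', add_comm]
  refine ((hiso y hyy hc).conj ht).congr fun a => ?_
  simp only [LinearMap.comp_apply, LinearEquiv.coe_coe, LinearMap.smul_apply, LinearMap.smulRight_apply,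
    LinearMap.restrictScalars_apply]
  rw [map_smul, map_smul, hty, ← hs.preserves t ht y (t.symm a), hty, t.apply_symm_apply]

/-- Every overgroup outside the semilinear group contains all transvections over the smaller field. -/
theorem Setup.transvection_mem (h3 : finrank F K = 3) (hm : finrank K V = 2) (hq : 3 ≤ Nat.card (fixedSub σ))
    {g : V ≃ₗ[F] V} (hg : g ∈ X) (hns : ¬ ∀ k : K, ∃ k' : K, ∀ y, g (k • y) = k' • g y) (w : V)
    (hw : μ (B w w) = 0) {c : F} (hc : c + σ c = 0) : U X (c • (μ.comp ((B w).restrictScalars F)).smulRight w) := by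
  obtain ⟨h, v, v', ht⟩ := hs.exists_imax hg hns
  obtain ⟨η, he, hU⟩ := hs.exists_eta ht
  obtain ⟨c₁, hc₁⟩ := hs.exists_moved hm ht he
  obtain ⟨L, hL, hL0, hrk⟩ := hs.exists_rankOne h3 hq ht he hU hc₁
  exact hs.transvection_all hL hL0 hrk w hw hc

end CfsgLib.Geo.UnitFieldExt
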