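/-
Adjoints in the span of the coefficients; from rank two to rank one.
-/
import Cfsg.Agent.Lib.Geo.UnitFieldExt.Coeff
import Cfsg.Agent.Lib.Geo.OrthExt.Galois

set_option autoImplicit false
set_option linter.unusedSectionVars false

namespace CfsgLib.Geo.UnitFieldExt

open Module CfsgLib.Classical CfsgLib.Classical.Herm CfsgLib.Geo.FieldExt

variable {F K V : Type*} [Field F] [Field K] [Algebra F K] [AddCommGroup V] [Module F V] [Module K V]
  [IsScalarTower F K V] {σ : F →+* F} {s : K →+* K} [Finite F] [FiniteDimensional F K] [FiniteDimensional K V]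
  {μ : K →ₗ[F] F} {B : V →ₛₗ[s] V →ₗ[K] K} {X : Subgroup (V ≃ₗ[F] V)} (hs : Setup σ μ B X)
include hs

theorem Setup.exists_adjoint {L : K →ₗ[F] K} (hL : L ∈ RF B X) :
    ∃ M ∈ RF B X, ∀ a b, μ (s (L a) * b) + μ (s a * M b) = 0 := by
  induction hL using Submodule.span_induction with
  | mem S hS => exact ⟨S, RS.mem_rf hS, hs.skew_of_rs hS⟩
  | zero => exact ⟨0, (RF B X).zero_mem, fun a b => by simp⟩
  | add L L' _ _ h h' =>
    obtain ⟨M, hM, hM'⟩ := h
    obtain ⟨N, hN, hN'⟩ := h'
    refine ⟨M + N, (RF B X).add_mem hM hN, fun a b => ?_⟩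
    simp only [LinearMap.add_apply, map_add, add_mul, mul_add]
    linear_combination hM' a b + hN' a b
  | smul d L _ h =>
    obtain ⟨M, hM, hM'⟩ := h
    refine ⟨σ d • M, (RF B X).smul_mem _ hM, fun a b => ?_⟩
    simp only [LinearMap.smul_apply, hs.pair.smul, smul_mul_assoc, mul_smul_comm, map_smul, smul_eq_mul]
    linear_combination σ d * hM' a b

theorem Setup.left_mem {L : K →ₗ[F] K} (hL : L ∈ RF B X) (a : K) : (mulL a).comp L ∈ RF B X := by
  convert hs.rf_twist hL a 1 using 1
  exact LinearMap.ext fun x => by simp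

theorem Setup.right_mem {L : K →ₗ[F] K} (hL : L ∈ RF B X) (a : K) : L.comp (mulL a) ∈ RF B X := by
  convert hs.rf_twist hL 1 a using 1
  exact LinearMap.ext fun x => by simp

/-- The automorphisms of the larger field commute with the involution. -/
theorem Setup.algHom_conj (ψ : K →ₐ[F] K) (x : K) : ψ (s x) = s (ψ x) := by
  haveI : Finite K := Module.finite_of_finite F
  rw [hs.pair.invol'.apply_eq_pow, hs.pair.invol'.apply_eq_pow, map_pow]

/-- A member of rank at most two gives one of rank one. -/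
theorem Setup.exists_rankOne_of_two (hr2 : finrank F K ≠ 2) {L : K →ₗ[F] K} (hL : L ∈ RF B X) (hL0 : L ≠ 0)
    (hrk : finrank F (LinearMap.range L) ≤ 2) :
    ∃ L' ∈ RF B X, L' ≠ 0 ∧ finrank F (LinearMap.range L') ≤ 1 := by
  classical
  by_cases h1 : finrank F (LinearMap.range L) ≤ 1
  · exact ⟨L, hL, hL0, h1⟩
  have h2 : finrank F (LinearMap.range L) = 2 := by omega
  -- the rank one map
  let W : K → (K →ₗ[F] K) := fun z => (μ.comp (mulL z)).smulRight (1 : K)
  have hW : ∀ z x, W z x = μ (z * x) • (1 : K) := fun z x => rfl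
  suffices hgoal : W 1 ∈ RF B X by
    refine ⟨W 1, hgoal, fun e => ?_, ?_⟩
    · simpa [hW, hs.mu_one] using congrFun (congrArg DFunLike.coe e) 1
    · refine (Submodule.finrank_mono (?_ : _ ≤ Submodule.span F {(1 : K)})).trans (finrank_span_singleton one_ne_zero).le
      rintro _ ⟨x, rfl⟩
      exact Submodule.mem_span_singleton.2 ⟨_, (hW 1 x).symm⟩
  by_contra hW1
  let b := Module.finBasisOfFinrankEq F (LinearMap.range L) h2
  set e₁ : K := ((b 0 : LinearMap.range L) : K)
  set e₂ : K := ((b 1 : LinearMap.range L) : K)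
  have he : ∀ c : F, e₂ ≠ c • e₁ := fun c e => by
    have h3 : b 1 = c • b 0 := Subtype.ext e
    have := congrArg (fun y => b.repr y 1) h3
    simp at this
  have he₁ : e₁ ≠ 0 := fun e => b.ne_zero 0 (Subtype.ext e)
  obtain ⟨m₁, hm₁⟩ := FieldExtSymp.exists_eq_mul hs.mu_one ((b.coord 0).comp L.rangeRestrict)
  obtain ⟨m₂, hm₂⟩ := FieldExtSymp.exists_eq_mul hs.mu_one ((b.coord 1).comp L.rangeRestrict)
  have hLx : ∀ x, L x = μ (m₁ * x) • e₁ + μ (m₂ * x) • e₂ := fun x => by
    rw [← hm₁, ← hm₂]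
    have h3 := congrArg Subtype.val (b.sum_repr (L.rangeRestrict x)).symm
    rw [Fin.sum_univ_two] at h3
    exact h3
  have hm₁0 : m₁ ≠ 0 := fun e => by
    obtain ⟨x, hx⟩ := (b 0).2
    have h3 : L.rangeRestrict x = b 0 := Subtype.ext hx
    have h4 := hm₁ x
    rw [LinearMap.comp_apply, h3, Module.Basis.coord_apply, Module.Basis.repr_self, Finsupp.single_eq_same, e,
      zero_mul, map_zero] at h4
    exact one_ne_zero h4
  set ε := e₂ / e₁
  set δ := m₂ / m₁
  have hε : ε ∉ Set.range (algebraMap F K) := by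
    rintro ⟨c, hc⟩
    exact he c (by rw [Algebra.smul_def, hc, div_mul_cancel₀ _ he₁])
  have hε0 : ε ≠ 0 := fun e => hε ⟨0, by rw [map_zero, e]⟩
  have hbase : ∀ y, W y + (mulL ε).comp (W (δ * y)) ∈ RF B X := fun y => by
    convert hs.rf_twist hL e₁⁻¹ (y / m₁) using 1
    refine LinearMap.ext fun x => ?_
    simp only [LinearMap.add_apply, LinearMap.comp_apply, mulL_apply, hW, hLx, mul_add, mul_smul_comm, mul_one]
    rw [show m₁ * (y / m₁ * x) = y * x by field_simp, show m₂ * (y / m₁ * x) = δ * y * x by simp only [δ]; ring,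
      inv_mul_cancel₀ he₁, show e₁⁻¹ * e₂ = ε by simp only [ε]; ring]
  -- the relation
  let Rel : K → K → Prop := fun z z' => ∀ y, W (z * y) - (mulL z').comp (W y) ∈ RF B X
  have Wadd : ∀ z z', W (z + z') = W z + W z' := fun z z' =>
    LinearMap.ext fun x => by simp [hW, add_mul, add_smul]
  have Radd : ∀ {a a' c c' : K}, Rel a a' → Rel c c' → Rel (a + c) (a' + c') := fun {a a' c c'} h h' y => by
    convert (RF B X).add_mem (h y) (h' y) using 1
    rw [add_mul, Wadd]
    refine LinearMap.ext fun x => ?_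
    simp only [LinearMap.add_apply, LinearMap.sub_apply, LinearMap.comp_apply, mulL_apply, add_mul]
    abel
  have Rmul : ∀ {a a' c c' : K}, Rel a a' → Rel c c' → Rel (a * c) (a' * c') := fun {a a' c c'} h h' y => by
    convert (RF B X).add_mem (h (c * y)) (hs.left_mem (h' y) a') using 1
    rw [mul_assoc]
    refine LinearMap.ext fun x => ?_
    simp only [LinearMap.add_apply, LinearMap.sub_apply, LinearMap.comp_apply, mulL_apply, mul_sub, mul_assoc]
    abel
  have Ralg : ∀ c : F, Rel (algebraMap F K c) (algebraMap F K c) := fun c y => by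
    convert (RF B X).zero_mem using 1
    refine LinearMap.ext fun x => ?_
    rw [LinearMap.sub_apply, LinearMap.comp_apply, mulL_apply, LinearMap.zero_apply, sub_eq_zero, hW, hW,
      ← Algebra.smul_def, ← Algebra.smul_def, smul_mul_assoc, map_smul, smul_eq_mul, mul_smul]
  have Runiq : ∀ {a a' a'' : K}, Rel a a' → Rel a a'' → a' = a'' := fun {a a' a''} h h' => by
    by_contra hne
    refine hW1 ?_
    convert hs.left_mem ((RF B X).sub_mem (h' 1) (h 1)) (a' - a'')⁻¹ using 1
    refine LinearMap.ext fun x => ?_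
    simp only [LinearMap.sub_apply, LinearMap.comp_apply, mulL_apply]
    rw [show W (a * 1) x - a'' * W 1 x - (W (a * 1) x - a' * W 1 x) = (a' - a'') * W 1 x by ring,
      inv_mul_cancel_left₀ (sub_ne_zero.2 hne)]
  have hδρ : Rel δ (-ε⁻¹) := fun y => by
    convert hs.left_mem (hbase y) ε⁻¹ using 1
    refine LinearMap.ext fun x => ?_
    simp only [LinearMap.sub_apply, LinearMap.add_apply, LinearMap.comp_apply, mulL_apply]
    field_simp
    ring
  have hδ : δ ∉ Set.range (algebraMap F K) := by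
    rintro ⟨c, hc⟩
    have h3 := Runiq (hc ▸ Ralg c : Rel δ (algebraMap F K c)) hδρ
    exact hε ⟨-c⁻¹, by rw [map_neg, map_inv₀, h3, inv_neg, inv_inv, neg_neg]⟩
  let Z : Subalgebra F K :=
    { carrier := {z | ∃ z', Rel z z'}
      mul_mem' := fun ⟨_, h⟩ ⟨_, h'⟩ => ⟨_, Rmul h h'⟩
      add_mem' := fun ⟨_, h⟩ ⟨_, h'⟩ => ⟨_, Radd h h'⟩
      algebraMap_mem' := fun c => ⟨_, Ralg c⟩ }
  haveI := Subalgebra.isSimpleOrder_of_finrank_prime F K hs.pair.prime
  have hZ : Z = ⊤ := (eq_bot_or_eq_top Z).resolve_left fun e =>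
    hδ (Algebra.mem_bot.1 (e ▸ (⟨_, hδρ⟩ : δ ∈ Z)))
  choose ψf hψf using fun z => (hZ ▸ Algebra.mem_top : z ∈ Z)
  let ψ : K →ₐ[F] K :=
    { toFun := ψf
      map_one' := Runiq (hψf 1) (by simpa using Ralg 1)
      map_mul' := fun a c => Runiq (hψf _) (Rmul (hψf a) (hψf c))
      map_zero' := Runiq (hψf 0) (by simpa using Ralg 0)
      map_add' := fun a c => Runiq (hψf _) (Radd (hψf a) (hψf c))
      commutes' := fun c => Runiq (hψf _) (Ralg c) }
  have hψ : ∀ z, Rel z (ψ z) := hψf
  have hψδ : ψ δ = -ε⁻¹ := Runiq (hψ δ) hδρ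
  have hδ0 : δ ≠ 0 := fun e => hδ ⟨0, by rw [map_zero, e]⟩
  -- the adjoint relation
  have hadjW : ∀ y, W y + (mulL (s δ)).comp (W (s ε * y)) ∈ RF B X := fun y => by
    obtain ⟨M, hM, hM'⟩ := hs.exists_adjoint (hbase 1)
    have e : M = -(W 1 + (mulL (s δ)).comp (W (s ε))) := by
      refine LinearMap.ext fun c => eq_neg_of_add_eq_zero_left (hs.eq_zero_of_mu fun a => ?_)
      have h3 := hM' (s a) c
      rw [hs.pair.invol'.invol] at h3
      have e1 : s ((W 1 + (mulL ε).comp (W (δ * 1))) (s a)) * c = μ a • c + μ (s δ * a) • (s ε * c) := by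
        simp only [LinearMap.add_apply, LinearMap.comp_apply, mulL_apply, hW, map_add, map_mul, hs.pair.smul,
          ← hs.mu_conj, map_one, one_mul, mul_one, hs.pair.invol'.invol, add_mul, mul_smul_comm, smul_mul_assoc]
      rw [e1, map_add, map_smul, map_smul, smul_eq_mul, smul_eq_mul] at h3
      simp only [LinearMap.add_apply, LinearMap.comp_apply, mulL_apply, hW, one_mul, mul_one, add_mul, mul_add,
        map_add, mul_smul_comm, smul_mul_assoc, map_smul, smul_eq_mul]
      rw [mul_comm (M c) a]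
      linear_combination h3
    have h4 := hs.right_mem ((RF B X).neg_mem hM) y
    rw [e, neg_neg] at h4
    convert h4 using 1
    refine LinearMap.ext fun x => ?_
    simp only [LinearMap.add_apply, LinearMap.comp_apply, mulL_apply, hW, one_mul, mul_assoc]
  have hψε : ψ (s ε) = -(s δ)⁻¹ := Runiq (hψ _) fun y => by
    convert hs.left_mem (hadjW y) (s δ)⁻¹ using 1
    have := (map_ne_zero s).2 hδ0
    refine LinearMap.ext fun x => ?_
    simp only [LinearMap.sub_apply, LinearMap.add_apply, LinearMap.comp_apply, mulL_apply]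
    field_simp
    ring
  have hψψ : ψ (ψ δ) = δ := by
    have h3 : ψ ε = -δ⁻¹ := by
      rw [← hs.pair.invol'.invol (ψ ε), ← hs.algHom_conj, hψε, map_neg, map_inv₀, hs.pair.invol'.invol]
    rw [hψδ, map_neg, map_inv₀, h3, inv_neg, neg_neg, inv_inv]
  haveI := Fintype.ofFinite F
  have hid : ∀ z, ψ z = z := OrthExt.algHom_eq_id hs.pair.prime hδ (OrthExt.algHom_involution hs.pair.prime hr2 hψψ)
  -- the identity is a multiple of the rank one map
  let c := Module.finBasis F K
  choose d hd using fun j => FieldExtSymp.exists_eq_mul hs.mu_one (c.coord j)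
  set E := ∑ j, c j * d j
  have hE : E ≠ 0 := fun e => by
    obtain ⟨z, hz⟩ := Algebra.trace_surjective F K 1
    rw [Algebra.trace_eq_matrix_trace c] at hz
    have h3 : (Algebra.leftMulMatrix c z).trace = μ (z * E) := by
      rw [Matrix.trace, Finset.mul_sum, map_sum]
      refine Finset.sum_congr rfl fun j _ => ?_
      rw [Matrix.diag_apply, Algebra.leftMulMatrix_eq_repr_mul, ← Module.Basis.coord_apply, hd]
      congr 1
      ring
    rw [h3, e, mul_zero, map_zero] at hz
    exact zero_ne_one hz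
  refine hW1 ?_
  have h5 : (mulL (1 : K)) - ∑ j, (mulL (c j)).comp (W (d j * 1) - (mulL (ψ (d j))).comp (W 1)) ∈ RF B X :=
    (RF B X).sub_mem (hs.mulL_mem_rf 1) (Submodule.sum_mem _ fun j _ => hs.left_mem (hψ (d j) 1) _)
  convert hs.left_mem h5 E⁻¹ using 1
  refine LinearMap.ext fun x => ?_
  simp only [LinearMap.sub_apply, LinearMap.comp_apply, LinearMap.sum_apply, mulL_apply, hid, mul_one, mul_sub,
    Finset.sum_sub_distrib, ← mul_assoc, ← Finset.sum_mul]
  have h6 : (∑ j, c j * W (d j) x) = x := by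
    conv_rhs => rw [← c.sum_repr x]
    refine Finset.sum_congr rfl fun j _ => ?_
    rw [hW, mul_smul_comm, mul_one, ← Module.Basis.coord_apply, hd]
  simp only [mul_assoc, ← Finset.mul_sum] at h6 ⊢
  rw [h6]
  simp [E, inv_mul_cancel_left₀ hE, ← mul_assoc, inv_mul_cancel₀ hE]

end CfsgLib.Geo.UnitFieldExt
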