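/-
Degree five: a member of rank two.
-/
import Cfsg.Agent.Lib.Geo.UnitFieldExt.Main
import Cfsg.Agent.Lib.Geo.UnitFieldExt.RankTwo

set_option autoImplicit false
set_option linter.unusedSectionVars false

namespace CfsgLib.Geo.UnitFieldExt

open Module CfsgLib.Classical CfsgLib.Classical.Herm CfsgLib.Geo.FieldExt

variable {F K V : Type*} [Field F] [Field K] [Algebra F K] [AddCommGroup V] [Module F V] [Module K V]
  [IsScalarTower F K V] {σ : F →+* F} {s : K →+* K} [Finite F] [FiniteDimensional F K] [FiniteDimensional K V]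
  {μ : K →ₗ[F] F} {B : V →ₛₗ[s] V →ₗ[K] K} {X : Subgroup (V ≃ₗ[F] V)} (hs : Setup σ μ B X)
include hs

/-- A non-scalar member gives three members independent over the larger field. -/
theorem Setup.three_le (hr2 : finrank F K ≠ 2) {S : K →ₗ[F] K} (hS : S ∈ RF B X) (hns : NonScalar S) :
    ∃ L : Fin 3 → (K →ₗ[F] K), (∀ i, L i ∈ RF B X) ∧
      ∀ p : Fin 3 → K, (∀ x, ∑ i, p i * L i x = 0) → p = 0 := by
  classical
  haveI : Finite K := Module.finite_of_finite F
  haveI : Fintype F := Fintype.ofFinite F
  by_contra! hlt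
  have h1 : (LinearMap.id : K →ₗ[F] K) ∈ RF B X := by
    convert hs.mulL_mem_rf 1 using 1
    exact LinearMap.ext fun x => by simp
  have hindep : ∀ p q : K, (∀ x, p * x + q * S x = 0) → p = 0 ∧ q = 0 := by
    intro p q h2
    have hq : q = 0 := by
      by_contra hq
      obtain ⟨c, hc⟩ := hns (-(p / q))
      refine hc ?_
      have h3 := h2 c
      field_simp
      linear_combination h3
    refine ⟨?_, hq⟩
    simpa [hq] using h2 1
  have hmem : ∀ L ∈ RF B X, ∃ p q : K, ∀ x, L x = p * x + q * S x := fun L hL => by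
    obtain ⟨p, hp, hp0⟩ := hlt ![LinearMap.id, S, L] (fun i => by fin_cases i <;> assumption)
    have h2 : ∀ x, p 0 * x + p 1 * S x + p 2 * L x = 0 := fun x => by simpa [Fin.sum_univ_three] using hp x
    have h3 : p 2 ≠ 0 := fun e => hp0 (by
      obtain ⟨e0, e1⟩ := hindep (p 0) (p 1) fun x => by simpa [e] using h2 x
      funext i
      fin_cases i <;> simp [e, e0, e1])
    refine ⟨-(p 0 / p 2), -(p 1 / p 2), fun x => ?_⟩
    field_simp
    linear_combination h2 x
  choose β α hαβ using fun b => hmem _ (hs.right_mem hS b)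
  simp only [LinearMap.comp_apply, mulL_apply] at hαβ
  have huniq : ∀ {p q p' q' : K}, (∀ x, p * x + q * S x = p' * x + q' * S x) → p = p' ∧ q = q' := by
    intro p q p' q' e
    have := hindep (p - p') (q - q') fun x => by linear_combination e x
    exact ⟨sub_eq_zero.1 this.1, sub_eq_zero.1 this.2⟩
  have hmul : ∀ b b', β (b * b') = β b * b' + α b * β b' ∧ α (b * b') = α b * α b' := fun b b' =>
    huniq fun x => by
      have e := hαβ (b * b') x
      have e1 := hαβ b (b' * x)
      have e2 := hαβ b' x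
      rw [show b * b' * x = b * (b' * x) by ring] at e
      linear_combination e1 + α b * e2 - e
  have hadd : ∀ b b', α (b + b') = α b + α b' := fun b b' =>
    (huniq (p := β (b + b')) (p' := β b + β b') fun x => by
      have e := hαβ (b + b') x
      rw [add_mul, map_add, hαβ, hαβ] at e
      linear_combination -e).2
  have halg : ∀ c : F, α (algebraMap F K c) = algebraMap F K c := fun c =>
    (huniq (p := β _) (p' := 0) fun x => by
      have e := hαβ (algebraMap F K c) x
      rw [← Algebra.smul_def, map_smul, Algebra.smul_def] at e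
      linear_combination -e).2
  let ψ : K →ₐ[F] K :=
    { toFun := α
      map_one' := by simpa using halg 1
      map_mul' := fun b b' => (hmul b b').2
      map_zero' := by simpa using halg 0
      map_add' := hadd
      commutes' := halg }
  obtain ⟨b₀, hb₀⟩ : ∃ b, ψ b ≠ b := by
    by_contra! hall
    obtain ⟨b, hb⟩ : ∃ b : K, b ∉ Set.range (algebraMap F K) := by
      by_contra! hall'
      have h3 : (⊥ : Subalgebra F K) = ⊤ := (Algebra.eq_top_iff.2 fun b => Algebra.mem_bot.2 (hall' b)).symm ▸ rfl
      rw [Subalgebra.bot_eq_top_iff_finrank_eq_one] at h3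
      exact Nat.not_prime_one (h3 ▸ hs.pair.prime)
    have hcm := FieldExtSymp.commute_of_commutator (Y := S) (c := b) (k := β b) fun x => by
      have e := hαβ b x
      rw [show α b = b from hall b] at e
      linear_combination e
    obtain ⟨c, hc⟩ := hns (S 1)
    exact hc (FieldExtSymp.eq_mul_of_commute hs.pair.prime hb hcm c)
  set c₀ := β b₀ / (b₀ - ψ b₀)
  have hd : b₀ - ψ b₀ ≠ 0 := sub_ne_zero.2 (Ne.symm hb₀)
  have hβ : ∀ b, β b = c₀ * (b - ψ b) := fun b => by
    have e1 := (hmul b b₀).1
    have e2 := (hmul b₀ b).1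
    rw [mul_comm b₀ b] at e2
    simp only [c₀]
    rw [div_mul_eq_mul_div, eq_div_iff hd]
    show β b * (b₀ - α b₀) = β b₀ * (b - α b)
    linear_combination e2 - e1
  set e₀ := S 1 - c₀
  have hSψ : ∀ b, S b = c₀ * b + e₀ * ψ b := fun b => by
    have e := hαβ b 1
    rw [mul_one, hβ, mul_one] at e
    rw [e]
    show _ + α b * S 1 = _ + (S 1 - c₀) * α b
    simp only [show ψ b = α b from rfl]
    ring
  have he₀ : e₀ ≠ 0 := fun e => by
    obtain ⟨c, hc⟩ := hns c₀
    exact hc (by rw [hSψ, e, zero_mul, add_zero])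
  have hψmem : ψ.toLinearMap ∈ RF B X := by
    have h3 : S - mulL c₀ ∈ RF B X := (RF B X).sub_mem hS (hs.mulL_mem_rf c₀)
    convert hs.left_mem h3 e₀⁻¹ using 1
    refine LinearMap.ext fun x => ?_
    simp only [LinearMap.comp_apply, LinearMap.sub_apply, mulL_apply, hSψ, add_sub_cancel_left,
      AlgHom.toLinearMap_apply]
    rw [inv_mul_cancel_left₀ he₀]
  obtain ⟨M, hM, hM'⟩ := hs.exists_adjoint hψmem
  simp only [AlgHom.toLinearMap_apply] at hM'
  obtain ⟨p, q, hpq⟩ := hmem M hM
  have hM0 : M ≠ 0 := fun e => by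
    have h3 := hM' 1 1
    rw [e] at h3
    simp [hs.mu_one] at h3
  have key : ∀ w x, M (s (ψ w) * x) = s w * M x := fun w x =>
    sub_eq_zero.1 (hs.eq_zero_of_mu fun a => by
      have e1 := hM' (s a) (s (ψ w) * x)
      have e2 := hM' (s a * w) x
      rw [hs.pair.invol'.invol] at e1
      rw [map_mul s, hs.pair.invol'.invol, map_mul ψ, map_mul s, mul_assoc] at e2
      rw [sub_mul, map_sub, mul_comm _ a, mul_comm _ a, ← mul_assoc]
      rw [mul_assoc a, ← mul_assoc a] at *
      linear_combination e1 - e2)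
  have huniq' : ∀ {a b : K}, (∀ x, a * x + b * ψ x = 0) → a = 0 ∧ b = 0 := fun {a b} e => by
    have h3 := e 1
    rw [map_one, mul_one, mul_one] at h3
    have h4 : b * (ψ b₀ - b₀) = 0 := by linear_combination e b₀ - b₀ * h3
    have hb : b = 0 := (mul_eq_zero.1 h4).resolve_right (sub_ne_zero.2 hb₀)
    exact ⟨by rwa [hb, add_zero] at h3, hb⟩
  have hP : ∀ x, M x = (p + q * c₀) * x + q * e₀ * ψ x := fun x => by rw [hpq, hSψ]; ring
  set P := p + q * c₀
  set R := q * e₀
  have h4 := huniq' (a := P * (s (ψ b₀) - s b₀)) (b := R * (ψ (s (ψ b₀)) - s b₀)) fun x => by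
    have e := key b₀ x
    rw [hP, hP, map_mul] at e
    linear_combination e
  have hP0 : P = 0 := (mul_eq_zero.1 h4.1).resolve_right (sub_ne_zero.2 fun e => hb₀ (s.injective e))
  rcases eq_or_ne R 0 with hR0 | hR0
  · exact hM0 (LinearMap.ext fun x => by simp [hP, hP0, hR0])
  · have h11 := sub_eq_zero.1 ((mul_eq_zero.1 h4.2).resolve_left hR0)
    rw [hs.algHom_conj] at h11
    exact hb₀ (OrthExt.algHom_involution hs.pair.prime hr2 (s.injective h11))

variable {h : V ≃ₗ[F] V} {v v' : V} {η : V →ₗ[F] V}

/-- A member of rank at most one, in degree five. -/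
theorem Setup.exists_rankOne_five (h5 : finrank F K = 5) (ht : IMax B X h v v') (he : Eta K X h v v' η)
    (hU : ∀ t : F, σ t = t → U X (t • η)) {c₁ : K} (hc₁ : η (c₁ • v') ≠ 0) :
    ∃ L ∈ RF B X, L ≠ 0 ∧ finrank F (LinearMap.range L) ≤ 1 := by
  classical
  haveI : Finite K := Module.finite_of_finite F
  haveI : Fintype F := Fintype.ofFinite F
  obtain ⟨lam, Q, A, c₂, h1A, hA, hlA, hlz, hQA, hQ1, hc₂, hskew, hcom⟩ := hs.exists_data ht he hU hc₁
  have hcom1 : ∀ L ∈ RF B X, comCoef lam Q L ∈ RF B X := fun L hL => by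
    simpa using hcom 1 (map_one σ) L hL
  obtain ⟨k, hk⟩ := exists_nonScalar_of_three h1A hlA hlz hQA hQ1 hs.pair.prime (by omega) hA
  have hthree := hs.three_le (by omega) (hcom1 _ (hs.mulL_mem_rf k)) hk
  -- both maps have rank at most two
  have hlam : finrank F (LinearMap.range lam) ≤ 2 := by
    have h1 := LinearMap.finrank_range_add_finrank_ker lam
    have h2 : finrank F A ≤ finrank F (LinearMap.ker lam) :=
      Submodule.finrank_mono fun x hx => LinearMap.mem_ker.2 (hlz x hx)
    have h3 : finrank F (LinearMap.range lam) ≤ finrank F A :=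
      Submodule.finrank_mono (by rintro _ ⟨c, rfl⟩; exact hlA c)
    omega
  have hQ : finrank F (LinearMap.range Q) ≤ 2 := by
    let lam' : K →ₗ[F] K :=
      { toFun := fun c => s (lam (s c))
        map_add' := fun a b => by simp
        map_smul' := fun t a => by
          simp only [hs.pair.smul, map_smul, hs.pair.invol.invol, RingHom.id_apply] }
    have hlam' : finrank F (LinearMap.range lam') = finrank F (LinearMap.range lam) := by
      refine Nat.pow_right_injective (Finite.one_lt_card (α := F)) ?_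
      show Nat.card F ^ _ = Nat.card F ^ _
      rw [← Module.natCard_eq_pow_finrank, ← Module.natCard_eq_pow_finrank]
      refine Nat.card_congr
        { toFun := fun x => ⟨s x, by
            obtain ⟨_, c, rfl⟩ := x
            exact ⟨s c, by simp [lam', hs.pair.invol'.invol]⟩⟩
          invFun := fun x => ⟨s x, by
            obtain ⟨_, c, rfl⟩ := x
            exact ⟨s c, by simp [lam', hs.pair.invol'.invol]⟩⟩
          left_inv := fun x => Subtype.ext (hs.pair.invol'.invol _)
          right_inv := fun x => Subtype.ext (hs.pair.invol'.invol _) }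
    let Φ : K →ₗ[F] (LinearMap.range lam' →ₗ[F] F) :=
      { toFun := fun d => μ.comp ((mulL d).comp (LinearMap.range lam').subtype)
        map_add' := fun a b => LinearMap.ext fun x => by simp [add_mul]
        map_smul' := fun t a => LinearMap.ext fun x => by simp }
    have hker : LinearMap.ker Φ ≤ LinearMap.ker Q := fun d hd => by
      refine LinearMap.mem_ker.2 (hs.eq_zero_of_mu fun a => ?_)
      have h1 := hskew (s a) d
      have h2 : μ (d * lam' a) = 0 :=
        congrFun (congrArg DFunLike.coe (LinearMap.mem_ker.1 hd)) ⟨lam' a, LinearMap.mem_range_self lam' a⟩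
      rw [hs.pair.invol'.invol, mul_comm (s (lam (s a))) d, show μ (d * s (lam (s a))) = 0 from h2, zero_add] at h1
      rwa [mul_comm]
    have h1 := LinearMap.finrank_range_add_finrank_ker Q
    have h2 := LinearMap.finrank_range_add_finrank_ker Φ
    have h3 := Submodule.finrank_mono hker
    have h4 : finrank F (LinearMap.range Φ) ≤ finrank F (LinearMap.range lam') :=
      (Submodule.finrank_le _).trans Subspace.dual_finrank_eq.le
    omega
  -- a member killing the image of `Q`
  obtain ⟨L₃, hL₃, hind⟩ := hthree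
  let b := Module.finBasis F (LinearMap.range Q)
  let ev : (Fin 3 → K) →ₗ[K] (Fin (finrank F (LinearMap.range Q)) → K) :=
    { toFun := fun p j => ∑ i, p i * L₃ i (b j)
      map_add' := fun p p' => funext fun j => by simp [add_mul, Finset.sum_add_distrib]
      map_smul' := fun t p => funext fun j => by simp [Finset.mul_sum, mul_assoc] }
  obtain ⟨p, hp, hp0⟩ := (Submodule.ne_bot_iff _).1
    (LinearMap.ker_ne_bot_of_finrank_lt (f := ev) (by rw [Module.finrank_fin_fun, Module.finrank_fin_fun]; omega))
  set L := ∑ i, (mulL (p i)).comp (L₃ i) with hLdef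
  have hL : L ∈ RF B X := Submodule.sum_mem _ fun i _ => hs.left_mem (hL₃ i) _
  have hLQ : ∀ x, L (Q x) = 0 := by
    have h0 : L.comp (LinearMap.range Q).subtype = 0 := b.ext fun j => by
      simpa [hLdef, ev] using congrFun (LinearMap.mem_ker.1 hp) j
    exact fun x => congrFun (congrArg DFunLike.coe h0) ⟨Q x, LinearMap.mem_range_self Q x⟩
  obtain ⟨x, hx⟩ : ∃ x, L x ≠ 0 := by
    by_contra! hall
    exact hp0 (hind p fun x => by simpa [hLdef] using hall x)
  set T := lam.comp ((mulL (c₂ / L x)).comp L)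
  have hT : T ∈ RF B X := by
    convert hcom1 _ (hs.left_mem hL (c₂ / L x)) using 1
    refine LinearMap.ext fun y => ?_
    simp [T, hLQ]
  refine hs.exists_rankOne_of_two (by omega) hT (fun e => ?_) ((Submodule.finrank_mono
    (LinearMap.range_comp_le_range _ _)).trans hlam)
  have h1 : lam (c₂ / L x * L x) = 0 := congrFun (congrArg DFunLike.coe e) x
  rw [div_mul_cancel₀ _ hx, hc₂] at h1
  exact one_ne_zero h1

/-- Overgroups outside the semilinear group contain all transvections over the smaller field, in dimension two. -/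
theorem Setup.transvection_two (hm : finrank K V = 2)
    (hr : finrank F K = 3 ∧ 3 ≤ Nat.card (fixedSub σ) ∨ finrank F K = 5) {g : V ≃ₗ[F] V} (hg : g ∈ X)
    (hns : ¬ ∀ k : K, ∃ k' : K, ∀ y, g (k • y) = k' • g y) (w : V) (hw : μ (B w w) = 0) {c : F} (hc : c + σ c = 0) :
    U X (c • (μ.comp ((B w).restrictScalars F)).smulRight w) := by
  rcases hr with ⟨h3, hq⟩ | h5
  · exact hs.transvection_mem h3 hm hq hg hns w hw hc
  obtain ⟨h, v, v', ht⟩ := hs.exists_imax hg hns
  obtain ⟨η, he, hU⟩ := hs.exists_eta ht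
  obtain ⟨c₁, hc₁⟩ := hs.exists_moved hm ht he
  obtain ⟨L, hL, hL0, hrk⟩ := hs.exists_rankOne_five h5 ht he hU hc₁
  exact hs.transvection_all hL hL0 hrk w hw hc

end CfsgLib.Geo.UnitFieldExt
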