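/-
A unipotent fixing the line of its centre yields a non-scalar coefficient.
-/
import Cfsg.Agent.Lib.Geo.UnitFieldExt.Five

set_option autoImplicit false
set_option linter.unusedSectionVars false

namespace CfsgLib.Geo.UnitFieldExt

open Module CfsgLib.Classical CfsgLib.Classical.Herm CfsgLib.Geo.FieldExt

variable {F K V : Type*} [Field F] [Field K] [Algebra F K] [AddCommGroup V] [Module F V] [Module K V]
  [IsScalarTower F K V] {σ : F →+* F} {s : K →+* K} [Finite F] [FiniteDimensional F K] [FiniteDimensional K V]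
  {μ : K →ₗ[F] F} {B : V →ₛₗ[s] V →ₗ[K] K} {X : Subgroup (V ≃ₗ[F] V)} (hs : Setup σ μ B X)
include hs

variable {h : V ≃ₗ[F] V} {v v' : V} {η : V →ₗ[F] V}

/-- A map intertwining a scalar and its conjugate modulo scalars is a multiplication. -/
theorem Setup.eq_mul_of_twisted {Y : K →ₗ[F] K} {κ : K → K} (h : ∀ c d, Y (c * d) = s c * Y d + κ c * d) (x : K) :
    Y x = x * Y 1 := by
  have hκ : ∀ c, κ c = Y c - s c * Y 1 := fun c => by
    have := h c 1
    rw [mul_one, mul_one] at this
    linear_combination -this
  have hsym : ∀ c d : K, (κ c) * (d - s d) = κ d * (c - s c) := fun c d => by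
    have e1 := h c d
    have e2 := h d c
    rw [mul_comm d c] at e2
    linear_combination e2 - e1 + s c * hκ d - s d * hκ c
  obtain ⟨e, he⟩ := hs.pair.invol'.exists_ne
  set ρ := κ e / (e - s e)
  have hρ : ∀ c, κ c = ρ * (c - s c) := fun c => by
    rw [div_mul_eq_mul_div, eq_div_iff (sub_ne_zero.2 (Ne.symm he))]
    exact hsym c e
  have hY : ∀ c, Y c = ρ * c + (Y 1 - ρ) * s c := fun c => by linear_combination hρ c - hκ c
  obtain ⟨a, ha⟩ := hs.pair.invol.exists_ne
  have e1 := hY (algebraMap F K a)
  rw [show Y (algebraMap F K a) = algebraMap F K a * Y 1 by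
    rw [Algebra.algebraMap_eq_smul_one, map_smul, smul_mul_assoc, one_mul], hs.pair.ext] at e1
  have h0 : (Y 1 - ρ) * (algebraMap F K a - algebraMap F K (σ a)) = 0 := by linear_combination e1
  have h1 : Y 1 = ρ := sub_eq_zero.1 ((mul_eq_zero.1 h0).resolve_right
    (sub_ne_zero.2 fun e' => ha ((algebraMap F K).injective e').symm))
  rw [hY, h1]
  ring

/-- When the maximal unipotent fixes the line of `v'`, some root element has a non-scalar coefficient. -/
theorem Setup.exists_nonScalar_fixed (hr : (finrank F K).Prime) (ht : IMax B X h v v') (he : Eta K X h v v' η)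
    (hfix : ∀ c : K, η (c • v') = 0) : ∃ S, RS B X S ∧ CfsgLib.Geo.FieldExt.NonScalar S := by
  classical
  haveI : Finite K := Module.finite_of_finite F
  haveI : Module.Finite F V := Module.Finite.trans K V
  obtain ⟨hh, hv, hvv, hv', hv'v', hmem, hns⟩ := ht.trip
  set W := (line (F := F) K v).map (h : V →ₗ[F] V) with hWdef
  have hηW : ∀ y, η y ∈ W := fun y => he.range.le (LinearMap.mem_range_self η y)
  have hsk : ∀ y z, μ (B (η y) z) + μ (B y (η z)) = 0 :=
    hs.unipotent_skew he.mem fun x y => hs.img_singular hh hvv (hηW x) (hηW y)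
  have hperp : ∀ x ∈ W, B v' x = 0 := by
    intro x hx
    obtain ⟨y, rfl⟩ := (he.range.ge hx : x ∈ LinearMap.range η)
    have h0 : B (η y) v' = 0 := hs.eq_zero_of_mu fun c => by
      have h1 := hsk y (c • v')
      rw [hfix, map_zero, map_zero, add_zero, map_smul, smul_eq_mul] at h1
      rwa [mul_comm]
    exact hs.herm.eq_zero_symm h0
  by_contra! hno
  simp only [CfsgLib.Geo.FieldExt.NonScalar, not_forall, not_exists, not_not] at hno
  -- the conjugates by Eichler transformations
  let D : V → (V →ₗ[F] V) := fun z =>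
    -(η ∘ₗ ((B v').smulRight z).restrictScalars F) - (((B z).smulRight v').restrictScalars F) ∘ₗ η +
      (((B z).smulRight v').restrictScalars F) ∘ₗ η ∘ₗ ((B v').smulRight z).restrictScalars F
  have hDy : ∀ z y, D z y = -η (B v' y • z) - B z (η y) • v' + B z (η (B v' y • z)) • v' := fun z y => rfl
  have hDsq : ∀ z z', B v' z = 0 → ∀ y, D z (D z' y) = 0 := by
    intro z z' hz y
    have e1 : ∀ x ∈ W, D z x = 0 := fun x hx => by
      rw [hDy, hperp x hx, zero_smul, map_zero, neg_zero, he.zero x hx, map_zero, zero_smul, sub_zero, zero_add]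
    have e2 : ∀ c : K, D z (c • v') = 0 := fun c => by
      rw [hDy, smul_right, hv'v', mul_zero, zero_smul, map_zero, neg_zero, hfix, map_zero, zero_smul, sub_zero,
        zero_add]
    rw [hDy z' y, map_add, map_sub, map_neg, e1 _ (hηW _), e2, e2]
    simp
  have hDU : ∀ z, B v' z = 0 → U X (D z) := by
    intro z hz
    obtain ⟨a, ha⟩ := hs.pair.invol'.exists_trace_eq (μ := -B z z) (by rw [map_neg, hs.herm.self_fixed])
    set E := hs.herm.eich hv'v' hz ha
    have hEX : (E : V ≃ₗ[K] V).restrictScalars F ∈ X := hs.base E (by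
      rw [hs.herm.det_eich, Units.val_one, map_one])
    have hE : ∀ y, (E : V ≃ₗ[K] V) y = y + B v' y • z + (a * B v' y - B z y) • v' := hs.herm.eich_apply hv'v' hz ha
    have hconj := he.mem.conj hEX
    have hEη : ∀ y, ((E : V ≃ₗ[K] V).restrictScalars F) (η ((E : V ≃ₗ[K] V).symm y)) = η y + D z y := by
      intro y
      have hy : (E : V ≃ₗ[K] V).symm y = y - B v' y • z + ((s a) * B v' y + B z y) • v' := by
        rw [LinearEquiv.symm_apply_eq, hE]
        simp only [map_add, map_sub, map_smul, smul_eq_mul, hv'v', hz, hs.herm.eq_zero_symm hz, mul_zero, sub_zero,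
          add_zero]
        match_scalars <;> (try ring1)
        linear_combination -(B v' y) * ha
      rw [hy, LinearEquiv.restrictScalars_apply, hE, map_add, map_sub, hfix, add_zero, hDy, map_sub (B v'),
        hperp _ (hηW _), hperp _ (hηW _), sub_zero, zero_smul, add_zero, mul_zero, zero_sub, map_sub (B z)]
      module
    refine (hconj.add (he.mem.neg fun y => he.sq y) fun y => ?_).congr fun y => ?_
    · show ((E : V ≃ₗ[K] V).restrictScalars F) (η ((E : V ≃ₗ[K] V).symm (-η y))) = 0
      rw [hEη, map_neg, map_neg, he.sq, neg_zero, zero_add, hDy, hperp _ (hηW _), zero_smul, map_zero, neg_zero,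
        he.sq, map_zero, zero_smul, sub_zero, zero_add, neg_zero]
    · show ((E : V ≃ₗ[K] V).restrictScalars F) (η ((E : V ≃ₗ[K] V).symm y)) + -η y = D z y
      rw [hEη]
      abel
  have hBz : ∀ z (t : F) (x : V), B z (t • x) = t • B z x := fun z t x => (B z).map_smul_of_tower t x
  -- the second differences
  have hpol : ∀ z z', B v' z = 0 → B v' z' = 0 → ∃ k : K, ∀ b, B z (η (b • z')) + B z' (η (b • z)) = k * b := by
    intro z z' hz hz'
    let S : K →ₗ[F] K :=
      { toFun := fun b => B z (η (b • z')) + B z' (η (b • z))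
        map_add' := fun a b => by simp only [add_smul, map_add]; abel
        map_smul' := fun t a => by
          simp only [smul_assoc, map_smul η, hBz, RingHom.id_apply, smul_add] }
    have hzz : B v' (z + z') = 0 := by rw [map_add, hz, hz', add_zero]
    have hU : U X (D (z + z') + (-D z) + (-D z')) :=
      ((hDU _ hzz).add ((hDU _ hz).neg fun y => hDsq z z hz y) fun y => by
        rw [LinearMap.neg_apply, map_neg, hDsq _ _ hzz, neg_zero]).add
        ((hDU _ hz').neg fun y => hDsq z' z' hz' y) fun y => by
          simp only [LinearMap.add_apply, LinearMap.neg_apply, map_neg, hDsq _ _ hzz, hDsq _ _ hz, neg_zero, add_zero]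
    obtain ⟨k, hk⟩ := hno S (hs.rs_of_root hv' hv'v' (hU.congr fun y => by
      simp only [LinearMap.add_apply, LinearMap.neg_apply, hDy, root_apply, S, LinearMap.coe_mk, AddHom.coe_mk,
        smul_add, map_add, LinearMap.add_apply, add_smul, neg_add, neg_sub, neg_neg]
      abel))
    exact ⟨k, hk⟩
  have hlin : ∀ z z', B v' z = 0 → B v' z' = 0 → ∀ c : K, B z' (η (c • z)) = c * B z' (η z) := by
    intro z z' hz hz' c
    let Y : K →ₗ[F] K :=
      { toFun := fun b => B z' (η (b • z))
        map_add' := fun a b => by simp only [add_smul, map_add]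
        map_smul' := fun t a => by simp only [smul_assoc, map_smul η, hBz, RingHom.id_apply] }
    obtain ⟨k1, hk1⟩ := hpol z z' hz hz'
    have hex : ∀ e : K, ∃ k, ∀ b, B (e • z) (η (b • z')) + B z' (η (b • e • z)) = k * b := fun e =>
      hpol (e • z) z' (by rw [map_smul, hz, smul_zero]) hz'
    choose ke hke using hex
    have := hs.eq_mul_of_twisted (Y := Y) (κ := fun e => ke e - s e * k1) (fun e b => by
      have e1 := hke e b
      rw [smul_left, smul_smul, mul_comm b e] at e1
      show B z' (η ((e * b) • z)) = s e * B z' (η (b • z)) + (ke e - s e * k1) * b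
      linear_combination e1 - s e * hk1 b) c
    simpa [Y] using this
  obtain ⟨w, hw⟩ := hs.herm.exists_apply_eq_one hv'
  have hwv : B w v' = 1 := by rw [← hs.herm.symm, hw, map_one]
  have hdecomp : ∀ x, B v' (x - B v' x • w) = 0 := fun x => by
    rw [map_sub, map_smul, hw, smul_eq_mul, mul_one, sub_self]
  have hline : ∀ {x : V}, (∀ z', B v' z' = 0 → B z' x = 0) → x = B w x • v' := fun {x} hx =>
    sub_eq_zero.1 (hs.herm.nondeg _ fun y => by
      have h1 : B (x - B w x • v') (y - B v' y • w) = 0 := by
        rw [sub_left, smul_left, hdecomp, mul_zero, sub_zero]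
        exact hs.herm.eq_zero_symm (hx _ (hdecomp y))
      have h2 : B (x - B w x • v') w = 0 := by
        rw [sub_left, smul_left, hw, mul_one, hs.herm.symm, sub_self]
      rwa [map_sub, map_smul, h2, smul_zero, sub_zero] at h1)
  -- the image modulo the line is closed under scalars
  have hmod : ∀ x : V, (∀ c : K, ∀ z', B v' z' = 0 → B z' (η (c • x)) = c * B z' (η x)) → ∃ a : K, η x = a • v' := by
    intro x hx
    by_contra! hne
    let T : K →ₗ[F] V := (LinearMap.toSpanSingleton K V (η x)).restrictScalars F
    have hTW : LinearMap.range T ≤ W ⊔ line (F := F) K v' := by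
      rintro _ ⟨c, rfl⟩
      have e := hline (x := c • η x - η (c • x)) fun z' hz' => by
        rw [map_sub, map_smul, hx c z' hz', smul_eq_mul, sub_self]
      show c • η x ∈ _
      rw [show c • η x = η (c • x) + (c • η x - η (c • x)) by abel]
      exact Submodule.add_mem_sup (hηW _) (by rw [e]; exact mem_line.2 ⟨_, rfl⟩)
    have hdis : LinearMap.range T ⊓ line (F := F) K v' = ⊥ := by
      rw [eq_bot_iff]
      rintro y ⟨⟨c, rfl⟩, hy⟩
      obtain ⟨e, he'⟩ := mem_line.1 hy
      by_contra hne0
      have hc : c ≠ 0 := fun h0 => hne0 (by simp [h0])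
      refine hne (e / c) ?_
      have : e • v' = c • η x := he'
      rw [div_eq_inv_mul, mul_smul, this, inv_smul_smul₀ hc]
    have hηx : η x ≠ 0 := fun h0 => hne 0 (by rw [h0, zero_smul])
    have hT : finrank F (LinearMap.range T) = finrank F K :=
      LinearMap.finrank_range_of_inj fun a b e => smul_left_injective K hηx e
    have h1 := Submodule.finrank_sup_add_finrank_inf_eq (LinearMap.range T) (line (F := F) K v')
    rw [hdis, finrank_bot, add_zero, hT, finrank_line hv'] at h1
    have h2 := Submodule.finrank_sup_add_finrank_inf_eq W (line (F := F) K v')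
    rw [hWdef, finrank_img h hv, finrank_line hv', ← hWdef] at h2
    have h3 : finrank F (LinearMap.range T ⊔ line (F := F) K v' : Submodule F V) ≤
        finrank F (W ⊔ line (F := F) K v' : Submodule F V) :=
      Submodule.finrank_mono (sup_le hTW le_sup_right)
    have h4 : 0 < finrank F (W ⊓ line (F := F) K v' : Submodule F V) := Module.finrank_pos_iff_exists_ne_zero.2
      ⟨⟨v', hmem, self_mem_line v'⟩, fun h0 => hv' (congrArg Subtype.val h0)⟩
    omega
  have hin : ∀ z, B v' z = 0 → ∃ a : K, η z = a • v' := fun z hz => hmod z fun c z' hz' => hlin z z' hz hz' c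
  -- the first differences
  have hfirst : ∀ z, B v' z = 0 → ∀ c : K, B z (η (c • w)) = c * B z (η w) := by
    intro z hz
    let φ : V → K → K := fun z b => B w (η (b • z))
    have hφ : ∀ z, B v' z = 0 → ∀ b : K, η (b • z) = φ z b • v' := fun z hz b => by
      obtain ⟨a, ha⟩ := hin (b • z) (by rw [map_smul, hz, smul_zero])
      simp only [φ, ha, map_smul, hwv, smul_eq_mul, mul_one]
    have hroot : ∀ z, B v' z = 0 → ∃ k : K, ∀ b, φ z b + B z (η (b • w)) = k * b := by
      intro z hz
      let S : K →ₗ[F] K :=
        { toFun := fun b => -(φ z b + B z (η (b • w)))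
          map_add' := fun a b => by simp only [φ, add_smul, map_add]; abel
          map_smul' := fun t a => by simp only [φ, smul_assoc, map_smul η, hBz, RingHom.id_apply, smul_add, smul_neg] }
      obtain ⟨k, hk⟩ := hno S (hs.rs_of_root hv' hv'v' ((hDU z hz).congr fun y => by
        have h1 : η y = η (y - B v' y • w) + η (B v' y • w) := by rw [← map_add, sub_add_cancel]
        obtain ⟨a, ha⟩ := hin _ (hdecomp y)
        rw [hDy, hφ z hz, map_smul (B z) _ v', hs.herm.eq_zero_symm hz, smul_zero, zero_smul, add_zero, h1, ha,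
          map_add (B z), map_smul (B z) a v', hs.herm.eq_zero_symm hz, smul_zero, zero_add, root_apply]
        simp only [S, LinearMap.coe_mk, AddHom.coe_mk, neg_add, add_smul, neg_smul]
        abel))
      refine ⟨-k, fun b => ?_⟩
      have := hk b
      simp only [S, LinearMap.coe_mk, AddHom.coe_mk] at this
      linear_combination -this
    obtain ⟨k1, hk1⟩ := hroot z hz
    have hex : ∀ e : K, ∃ k, ∀ b, φ (e • z) b + B (e • z) (η (b • w)) = k * b := fun e =>
      hroot (e • z) (by rw [map_smul, hz, smul_zero])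
    choose ke hke using hex
    let Y : K →ₗ[F] K :=
      { toFun := φ z
        map_add' := fun a b => by simp only [φ, add_smul, map_add]
        map_smul' := fun t a => by simp only [φ, smul_assoc, map_smul η, hBz, RingHom.id_apply] }
    have hY := hs.eq_mul_of_twisted (Y := Y) (κ := fun e => ke e - s e * k1) fun e b => by
      have e1 := hke e b
      rw [smul_left] at e1
      simp only [φ, smul_smul] at e1
      show φ z (e * b) = s e * φ z b + (ke e - s e * k1) * b
      simp only [φ]
      rw [mul_comm b e] at e1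
      linear_combination e1 - s e * hk1 b
    intro c
    have e1 := hk1 c
    have e2 := hk1 1
    rw [one_smul, mul_one] at e2
    have e3 : φ z c = c * φ z 1 := hY c
    linear_combination e1 - e3 - c * e2
  obtain ⟨a, ha⟩ := hmod w fun c z' hz' => hfirst z' hz' c
  refine hns v' (Submodule.eq_of_le_of_finrank_le ?_ (by rw [finrank_img h hv, finrank_line hv']))
  intro x hx
  obtain ⟨y, rfl⟩ := (he.range.ge hx : x ∈ LinearMap.range η)
  obtain ⟨b, hb⟩ := hin _ (hdecomp y)
  have h1 : η y = η (y - B v' y • w) + η (B v' y • w) := by rw [← map_add, sub_add_cancel]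
  have h2 := hline (x := η (B v' y • w)) fun z' hz' => by
    rw [hfirst z' hz', ha, map_smul, hs.herm.eq_zero_symm hz', smul_zero, mul_zero]
  rw [h1, hb, h2, ← add_smul]
  exact mem_line.2 ⟨_, rfl⟩

/-- Some coefficient is not a scalar. -/
theorem Setup.exists_nonScalar (hr : (finrank F K).Prime) (h3 : 3 ≤ finrank F K) (ht : IMax B X h v v')
    (he : Eta K X h v v' η) (hU : ∀ t : F, σ t = t → U X (t • η)) : ∃ S ∈ RF B X, CfsgLib.Geo.FieldExt.NonScalar S := by
  haveI : Fintype F := Fintype.ofFinite F
  by_cases hfix : ∀ c : K, η (c • v') = 0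
  · obtain ⟨S, hS, hn⟩ := hs.exists_nonScalar_fixed hr ht he hfix
    exact ⟨S, RS.mem_rf hS, hn⟩
  push Not at hfix
  obtain ⟨c₁, hc₁⟩ := hfix
  obtain ⟨lam, Q, A, c₂, h1A, hA, hlA, hlz, hQA, hQ1, hc₂, -, hcom⟩ := hs.exists_data ht he hU hc₁
  obtain ⟨k, hk⟩ := exists_nonScalar_of_three h1A hlA hlz hQA hQ1 hr h3 hA
  exact ⟨_, by simpa using hcom 1 (map_one σ) _ (hs.mulL_mem_rf k), hk⟩

/-- In degree three, overgroups outside the semilinear group contain all transvections over the smaller field. -/
theorem Setup.transvection_three (h3 : finrank F K = 3) {g : V ≃ₗ[F] V} (hg : g ∈ X)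
    (hns : ¬ ∀ k : K, ∃ k' : K, ∀ y, g (k • y) = k' • g y) (w : V) (hw : μ (B w w) = 0) {c : F} (hc : c + σ c = 0) :
    U X (c • (μ.comp ((B w).restrictScalars F)).smulRight w) := by
  classical
  haveI : Finite K := Module.finite_of_finite F
  obtain ⟨h, v, v', ht⟩ := hs.exists_imax hg hns
  obtain ⟨η, he, hU⟩ := hs.exists_eta ht
  obtain ⟨S, hS, hn⟩ := hs.exists_nonScalar (by rw [h3]; norm_num) h3.ge ht he hU
  obtain ⟨L, hL, hind⟩ := hs.three_le (by omega) hS hn
  -- every map is a member
  let Φ : (Fin 3 → K) →ₗ[F] (K →ₗ[F] K) :=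
    { toFun := fun p => ∑ i, (mulL (p i)).comp (L i)
      map_add' := fun p q => LinearMap.ext fun x => by simp [add_mul, Finset.sum_add_distrib]
      map_smul' := fun t p => LinearMap.ext fun x => by simp [Finset.smul_sum] }
  have hΦ : Function.Injective Φ := (injective_iff_map_eq_zero Φ).2 fun p hp => hind p fun x => by
    simpa [Φ] using congrFun (congrArg DFunLike.coe hp) x
  have hsurj : LinearMap.range Φ = ⊤ := Submodule.eq_top_of_finrank_eq (by
    rw [LinearMap.finrank_range_of_inj hΦ, Module.finrank_linearMap, Module.finrank_pi_fintype, Finset.sum_const,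
      Finset.card_univ, Fintype.card_fin, smul_eq_mul, h3]
    )
  have hall : ∀ M : K →ₗ[F] K, M ∈ RF B X := fun M => by
    obtain ⟨p, rfl⟩ := (hsurj.ge Submodule.mem_top : M ∈ LinearMap.range Φ)
    show ∑ i, (mulL (p i)).comp (L i) ∈ RF B X
    exact Submodule.sum_mem _ fun i _ => hs.left_mem (hL i) _
  refine hs.transvection_all (hall (μ.smulRight (1 : K))) (fun e => ?_) ?_ w hw hc
  · have := congrFun (congrArg DFunLike.coe e) 1
    simp [hs.mu_one] at this
  · refine le_of_le_of_eq (Submodule.finrank_mono ?_) (finrank_span_singleton (K := F) (one_ne_zero : (1 : K) ≠ 0))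
    rintro _ ⟨x, rfl⟩
    exact Submodule.smul_mem _ _ (Submodule.mem_span_singleton_self _)

end CfsgLib.Geo.UnitFieldExt
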