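/-
Normalisers of adjoint-closed field subalgebras are maximal in the special unitary group.
-/
import Cfsg.Agent.Lib.Geo.UnitFieldExt.Fixed
import Cfsg.Agent.Lib.Classical.Unitary.MatrixStructure
import Cfsg.Prelude.Def_GeometricClasses

set_option autoImplicit false
set_option linter.unusedSectionVars false

namespace CfsgLib.Geo.UnitFieldExt

open Matrix Cfsg.Geo CfsgLib.Classical CfsgLib.Classical.Herm CfsgLib.Geo.FieldExt

variable {F : Type*} [Field F] [Fintype F]

set_option maxHeartbeats 1000000 in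
/-- Subfields of degree three, and of degree five in dimension ten. -/
theorem isMaximalIn_of {n m r q : ℕ} (hF : Fintype.card F = q ^ 2) (hn : n = m * r)
    (hcases : r = 3 ∧ (m = 2 ∧ 3 ≤ q ∨ 3 ≤ m) ∨ r = 5 ∧ m = 2) (K : Subalgebra F (Matrix (Fin n) (Fin n) F)) (hK : IsFieldSubalgebra r K)
    (hadj : IsAdjointClosedFor (Cfsg.hermForm n F q) K) :
    IsMaximalIn (Cfsg.GU n F q ⊓ specialLinear (Fin n) F)
      (subalgebraNormalizer K ⊓ (Cfsg.GU n F q ⊓ specialLinear (Fin n) F)) := by
  have hr : r.Prime := by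
    rcases hcases with ⟨rfl, -⟩ | ⟨rfl, -⟩ <;> norm_num
  have hm2 : 2 ≤ m := by omega
  classical
  haveI : Nonempty (Fin n) := ⟨⟨0, by have := hr.pos; have := Nat.mul_le_mul hm2 hr.two_le; omega⟩⟩
  haveI : Nontrivial K := ⟨⟨0, 1, zero_ne_one⟩⟩
  have hKf : IsField K := ⟨⟨0, 1, zero_ne_one⟩, fun a b => Subtype.ext (hK.comm a.1 a.2 b.1 b.2), fun {a} ha => by
    obtain ⟨y, hy, e⟩ := hK.inv a.1 a.2 (fun h => ha (Subtype.ext h))
    exact ⟨⟨y, hy⟩, Subtype.ext e⟩⟩
  letI : Field K := @IsField.toField K (inferInstance : Ring K) hKf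
  letI : Module K (Fin n → F) :=
    { smul := fun k v => (k : Matrix (Fin n) (Fin n) F) *ᵥ v
      one_smul := fun v => Matrix.one_mulVec v
      mul_smul := fun a b v => (Matrix.mulVec_mulVec v (a : Matrix (Fin n) (Fin n) F) b).symm
      smul_zero := fun a => Matrix.mulVec_zero _
      smul_add := fun a u v => Matrix.mulVec_add _ u v
      add_smul := fun a b v => Matrix.add_mulVec _ _ v
      zero_smul := fun v => Matrix.zero_mulVec v }
  haveI : IsScalarTower F K (Fin n → F) :=
    ⟨fun c k v => Matrix.smul_mulVec c (k : Matrix (Fin n) (Fin n) F) v⟩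
  haveI : FiniteDimensional F K := Module.finite_of_finrank_pos (by rw [hK.finrank_eq]; exact hr.pos)
  haveI : FiniteDimensional K (Fin n → F) := Module.Finite.of_restrictScalars_finite F K _
  haveI : Finite K := Finite.of_injective _ Subtype.val_injective
  set σ := powHom hF with hσ_def
  set f := hermStd n hF with hf_def
  have hf : IsHerm f := hermStd_isHerm hF
  -- the adjoint
  have hex : ∀ k : K, ∃ k' : K, ∀ u v, f u (k • v) = f (k' • u) v := fun k => by
    obtain ⟨k', hk', e⟩ := hadj k.1 k.2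
    exact ⟨⟨k', hk'⟩, fun u v => e v u⟩
  choose sf hsf using hex
  obtain ⟨v₀, hv₀⟩ := exists_ne (0 : Fin n → F)
  have huniq : ∀ {a b : K}, (∀ u v, f (a • u) v = f (b • u) v) → a = b := fun {a b} e =>
    smul_left_injective K hv₀ (sub_eq_zero.1 (hf.nondeg _ fun v => by
      show f (a • v₀ - b • v₀) v = 0
      rw [map_sub, LinearMap.sub_apply, e, sub_self]))
  let s : K →+* K :=
    { toFun := sf
      map_one' := huniq fun u v => by rw [← hsf, one_smul, one_smul]
      map_mul' := fun a b => huniq fun u v => by rw [← hsf, mul_smul, hsf, hsf, smul_smul, mul_comm]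
      map_zero' := huniq fun u v => by rw [← hsf, zero_smul, zero_smul, map_zero, map_zero, LinearMap.zero_apply]
      map_add' := fun a b => huniq fun u v => by
        rw [← hsf, add_smul, map_add, hsf, hsf, add_smul, map_add, LinearMap.add_apply] }
  have hs : ∀ (k : K) u v, f u (k • v) = f (s k • u) v := hsf
  have hinv : ∀ k, s (s k) = k := fun k => huniq fun u v => by
    rw [← hs, ← hf.symm, ← hs, hf.symm]
  have hext : ∀ c : F, s (algebraMap F K c) = algebraMap F K (σ c) := fun c => huniq fun u v => by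
    rw [← hs, algebraMap_smul, algebraMap_smul, map_smul, LinearMap.map_smulₛₗ, LinearMap.smul_apply,
      smul_eq_mul, smul_eq_mul, hf.invol.invol]
  have hne : s ≠ RingHom.id K := fun e => hf.invol.ne_id (RingHom.ext fun c => by
    have h1 := hext c
    rw [e] at h1
    exact ((algebraMap F K).injective h1).symm)
  have hp : Pair σ s := ⟨hf.invol, ⟨hne, hinv⟩, hext, by rw [hK.finrank_eq]; exact hr⟩
  -- the functional
  obtain ⟨μ₀, hμ₀⟩ := exists_functional' (K := F) (V := K) (u := (1 : K)) one_ne_zero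
  obtain ⟨c₀, hc₀⟩ := hf.invol.exists_trace_eq (μ := 1) (map_one σ)
  let μ : K →ₗ[F] F :=
    { toFun := fun x => c₀ * μ₀ x + σ (c₀ * μ₀ (s x))
      map_add' := fun x y => by simp only [map_add, mul_add]; ring
      map_smul' := fun a x => by
        simp only [map_smul, hp.smul, smul_eq_mul, RingHom.id_apply, map_mul]
        rw [show σ (σ a) = a from hf.invol.invol a]
        ring }
  have hμ1 : μ 1 = 1 := by
    show c₀ * μ₀ 1 + σ (c₀ * μ₀ (s 1)) = 1
    rw [map_one s, hμ₀, mul_one, hc₀]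
  have hμs : ∀ x, μ (s x) = σ (μ x) := fun x => by
    show c₀ * μ₀ (s x) + σ (c₀ * μ₀ (s (s x))) = σ (c₀ * μ₀ x + σ (c₀ * μ₀ (s x)))
    rw [map_add, hf.invol.invol, hinv, add_comm]
  let Φ : (Fin n → F) → (Fin n → F) → (K →ₗ[F] F) := fun u v =>
    { toFun := fun k => f u (k • v)
      map_add' := fun a b => by rw [add_smul, map_add]
      map_smul' := fun t a => by rw [smul_assoc, map_smul, RingHom.id_apply] }
  choose b hb using fun u v => FieldExtSymp.exists_eq_mul hμ1 (Φ u v)
  have hb' : ∀ u v (k : K), f u (k • v) = μ (b u v * k) := hb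
  have hext' : ∀ {x y : K}, (∀ k, μ (x * k) = μ (y * k)) → x = y := fun h =>
    sub_eq_zero.1 (FieldExtSymp.eq_zero_of_forall hμ1 fun k => by rw [sub_mul, map_sub, h, sub_self])
  let B : (Fin n → F) →ₛₗ[s] (Fin n → F) →ₗ[K] K := LinearMap.mk₂'ₛₗ s (RingHom.id K) b
    (fun u u' v => hext' fun k => by
      rw [add_mul, map_add, ← hb', ← hb', ← hb', map_add, LinearMap.add_apply])
    (fun c u v => hext' fun k => by
      rw [smul_eq_mul, ← hb', show s c * b u v * k = b u v * (s c * k) by ring, ← hb', mul_smul, hs (s c), hinv])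
    (fun u v v' => hext' fun k => by rw [add_mul, map_add, ← hb', ← hb', ← hb', smul_add, map_add])
    (fun c u v => hext' fun k => by
      rw [RingHom.id_apply, smul_eq_mul, ← hb', show c * b u v * k = b u v * (k * c) by ring, ← hb', mul_smul])
  have hB : ∀ u v, μ (B u v) = f u v := fun u v => by
    show μ (b u v) = _
    rw [← one_smul K v, hb', one_smul, mul_one]
  have hBH : IsHerm B := by
    refine ⟨hp.invol', fun u v => hext' fun k => ?_, fun u hu => hf.nondeg u fun v => by rw [← hB, hu, map_zero]⟩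
    show μ (s (b u v) * k) = μ (b v u * k)
    rw [← hinv k, ← map_mul, hμs, ← hb', ← hb', hinv, hf.symm, hs k]
  let e : GL (Fin n) F ≃* ((Fin n → F) ≃ₗ[F] (Fin n → F)) :=
    Matrix.GeneralLinearGroup.toLin.trans (LinearMap.GeneralLinearGroup.generalLinearEquiv F (Fin n → F))
  have he : ∀ (x : GL (Fin n) F) y, e x y = (x : Matrix (Fin n) (Fin n) F) *ᵥ y := fun x y => rfl
  have hGU : ∀ x : GL (Fin n) F, x ∈ Cfsg.GU n F q ↔ ∀ u v, f (e x u) (e x v) = f u v := fun x =>
    ⟨fun h u v => h v u, fun h u v => h v u⟩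
  have hSL : ∀ x : GL (Fin n) F, x ∈ specialLinear (Fin n) F ↔ LinearMap.det (e x : (Fin n → F) →ₗ[F] (Fin n → F)) = 1 := by
    intro x
    rw [show (e x : (Fin n → F) →ₗ[F] (Fin n → F)) = Matrix.toLin' (x : Matrix (Fin n) (Fin n) F) from
      LinearMap.ext fun y => by rw [Matrix.toLin'_apply]; rfl, LinearMap.det_toLin', specialLinear,
      MonoidHom.mem_ker, Units.ext_iff, Matrix.GeneralLinearGroup.val_det_apply, Units.val_one]
  have hm : Module.finrank K (Fin n → F) = m := by
    have := Module.finrank_mul_finrank F K (Fin n → F)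
    rw [hK.finrank_eq, Module.finrank_pi, Fintype.card_fin] at this
    exact Nat.eq_of_mul_eq_mul_left hr.pos (by rw [this, hn, mul_comm])
  have hcard : Nat.card (fixedSub σ) = q := card_fixed_powHom hF
  have hbig : 3 ≤ Module.finrank K (Fin n → F) ∨
      (Nat.card (fixedSub σ) + 1) ^ 2 < Nat.card (fixedSub σ) ^ Module.finrank F K := by
    rw [hm, hcard, hK.finrank_eq]
    rcases hcases with ⟨rfl, ⟨-, hq⟩ | h3⟩ | ⟨rfl, -⟩
    · exact Or.inr (by nlinarith [Nat.mul_le_mul_right (q * q) hq])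
    · exact Or.inl h3
    · have h2 := two_le_of_card_sq hF
      exact Or.inr (by
        nlinarith [Nat.mul_le_mul_right (q * q * q * q) h2, Nat.mul_le_mul (Nat.mul_le_mul h2 h2) (le_refl (q * q))])
  -- elements of the normaliser
  have hnorm : ∀ x : GL (Fin n) F, x ∈ subalgebraNormalizer K → ∀ k : K, ∃ k' : K, ∀ y, e x (k • y) = k' • e x y := by
    intro x hx k
    refine ⟨⟨_, (hx k.1).1 k.2⟩, fun y => ?_⟩
    rw [he, he]
    show (x : Matrix (Fin n) (Fin n) F) *ᵥ (k.1 *ᵥ y) = ((x : Matrix (Fin n) (Fin n) F) * k.1 * _) *ᵥ _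
    rw [Matrix.mulVec_mulVec, Matrix.mulVec_mulVec, Units.inv_mul_cancel_right]
  refine ⟨lt_of_le_of_ne inf_le_right fun heq => ?_, fun M hM hMS => ?_⟩
  · -- a transvection over the smaller field outside the normaliser
    obtain ⟨v, hv0, hv⟩ := hBH.exists_isotropic (hm2.trans hm.ge)
    obtain ⟨z, hz⟩ := hBH.exists_apply_eq_one hv0
    obtain ⟨c, hc0, hc⟩ := hf.exists_skew
    have hvf : f v v = 0 := by rw [← hB, hv, map_zero]
    let t := hf.tr hvf hc
    have ht : ∀ y, e (e.symm (t : (Fin n → F) ≃ₗ[F] (Fin n → F))) y = y + (c * f v y) • v := fun y => by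
      rw [MulEquiv.apply_symm_apply, hf.tr_apply]
    have hmem : e.symm (t : (Fin n → F) ≃ₗ[F] (Fin n → F)) ∈ Cfsg.GU n F q ⊓ specialLinear (Fin n) F := by
      refine ⟨(hGU _).2 fun u w => by rw [MulEquiv.apply_symm_apply]; exact HU.map_eq t u w, (hSL _).2 ?_⟩
      rw [MulEquiv.apply_symm_apply, ← LinearEquiv.coe_det]
      exact congrArg Units.val (hf.det_tr hvf hc)
    rw [← heq] at hmem
    obtain ⟨k, hk⟩ : ∃ k : K, k ∉ Set.range (algebraMap F K) := by
      by_contra! hall
      have h1 : (⊥ : Subalgebra F K) = ⊤ := (Algebra.eq_top_iff.2 fun b => Algebra.mem_bot.2 (hall b)).symm ▸ rfl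
      rw [Subalgebra.bot_eq_top_iff_finrank_eq_one, hK.finrank_eq] at h1
      exact hr.one_lt.ne' h1
    obtain ⟨k', hk'⟩ := hnorm _ hmem.1 k
    have h1 := hk' z
    have ez : f v z = 1 := by rw [← hB, hz, hμ1]
    rw [ht, ht, ez, mul_one] at h1
    have hBv : ∀ a : F, B v (a • v) = 0 := fun a => by rw [← algebraMap_smul K a v, map_smul, hv, smul_zero]
    have h2 := congrArg (B v) h1
    rw [smul_add, map_add, map_add, (B v).map_smul k, (B v).map_smul k' z, (B v).map_smul k' (c • v), hBv, hBv, hz,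
      smul_zero, add_zero, add_zero, smul_eq_mul, smul_eq_mul, mul_one, mul_one] at h2
    rw [← h2, smul_add, add_right_inj] at h1
    have h4 : algebraMap F K (c * f v (k • z)) = k * algebraMap F K c := smul_left_injective K hv0 (by
      show algebraMap F K (c * f v (k • z)) • v = (k * algebraMap F K c) • v
      rw [algebraMap_smul, mul_smul k, algebraMap_smul]
      exact h1)
    exact hk ⟨c * f v (k • z) / c, by rw [map_div₀, h4, mul_div_assoc, div_self ((map_ne_zero _).2 hc0), mul_one]⟩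
  by_cases hMn : M ≤ subalgebraNormalizer K
  · exact Or.inl (le_antisymm (le_inf hMn hMS) hM)
  refine Or.inr (le_antisymm hMS ?_)
  obtain ⟨g, hg, hgn⟩ := SetLike.not_le_iff_exists.1 hMn
  let X : Subgroup ((Fin n → F) ≃ₗ[F] (Fin n → F)) := M.map e.toMonoidHom
  have hset : Setup σ μ B X := by
    refine ⟨hp, hBH, hμ1, hμs, ?_, fun y hy => ?_, hm2.trans hm.ge, hbig⟩
    · rintro _ ⟨x, hx, rfl⟩ u v
      rw [hB, hB]
      exact (hGU x).1 (hMS hx).1 u v
    · refine ⟨e.symm ((y : (Fin n → F) ≃ₗ[K] (Fin n → F)).restrictScalars F), hM ⟨fun k => ?_,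
        (hGU _).2 fun u v => ?_, (hSL _).2 ?_⟩, e.apply_symm_apply _⟩
      · set x := e.symm ((y : (Fin n → F) ≃ₗ[K] (Fin n → F)).restrictScalars F) with hx
        have hxy : ∀ z, (x : Matrix (Fin n) (Fin n) F) *ᵥ z = (y : (Fin n → F) ≃ₗ[K] (Fin n → F)) z := fun z => by
          rw [← he, hx, MulEquiv.apply_symm_apply]; rfl
        have hc : ∀ k ∈ K, (x : Matrix (Fin n) (Fin n) F) * k = k * (x : Matrix (Fin n) (Fin n) F) := fun k hk =>
          Matrix.toLin'.injective (LinearMap.ext fun z => by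
            simp only [Matrix.toLin'_apply, ← Matrix.mulVec_mulVec, hxy]
            exact (y : (Fin n → F) ≃ₗ[K] (Fin n → F)).map_smul ⟨k, hk⟩ z)
        refine ⟨fun hk => by rw [hc k hk, Units.mul_inv_cancel_right]; exact hk, fun hk => ?_⟩
        have h1 := hc _ hk
        rw [Units.inv_mul_cancel_right] at h1
        have h2' := (Units.mul_right_inj x).1 h1
        rw [h2'] at hk
        exact hk
      · rw [MulEquiv.apply_symm_apply, ← hB, ← hB]
        exact congrArg μ (HU.map_eq y u v)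
      · rw [MulEquiv.apply_symm_apply]
        show LinearMap.det (((y : (Fin n → F) ≃ₗ[K] (Fin n → F)) : (Fin n → F) →ₗ[K] (Fin n → F)).restrictScalars F) = 1
        rw [LinearMap.det_restrictScalars, ← hy]
        exact congrArg _ (LinearEquiv.coe_det _).symm
  have hns : ¬ ∀ k : K, ∃ k' : K, ∀ y, e g (k • y) = k' • e g y := by
    intro hsl
    choose τ hτ using hsl
    have hc : ∀ k : K, (g : Matrix (Fin n) (Fin n) F) * k.1 *
        ((g⁻¹ : GL (Fin n) F) : Matrix (Fin n) (Fin n) F) = (τ k).1 := fun k => by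
      have h1 : (g : Matrix (Fin n) (Fin n) F) * k.1 = (τ k).1 * (g : Matrix (Fin n) (Fin n) F) :=
        Matrix.toLin'.injective (LinearMap.ext fun y => by
          simp only [Matrix.toLin'_apply, ← Matrix.mulVec_mulVec]
          exact hτ k y)
      rw [h1, Units.mul_inv_cancel_right]
    have hinj : Function.Injective τ := fun a b hab => by
      have h1 := (hc a).trans ((congrArg Subtype.val hab).trans (hc b).symm)
      rw [(Units.isUnit g⁻¹).mul_left_inj, (Units.isUnit g).mul_right_inj] at h1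
      exact Subtype.ext h1
    refine hgn fun k => ⟨fun hk => hc ⟨k, hk⟩ ▸ (τ ⟨k, hk⟩).2, fun hk => ?_⟩
    obtain ⟨l, hl⟩ := (Finite.injective_iff_surjective.1 hinj) ⟨_, hk⟩
    have h1 := (hc l).trans (congrArg Subtype.val hl)
    rw [(Units.isUnit g⁻¹).mul_left_inj, (Units.isUnit g).mul_right_inj] at h1
    rw [← h1]
    exact l.2
  let L : Subgroup (HU f) := X.comap (HU f).subtype
  have hle : HSU f ≤ L := CfsgLib.Geo.UnitMax.le_of_hasTr hf (by rw [finrank_std]; have := Nat.mul_le_mul hm2 hr.two_le; omega) fun w hw c hc => by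
    have hU : U X (c • (μ.comp ((B w).restrictScalars F)).smulRight w) := by
      have hgX : e g ∈ X := Subgroup.mem_map_of_mem _ hg
      have hwμ : μ (B w w) = 0 := by rw [hB]; exact hw
      rcases hcases with ⟨rfl, -⟩ | ⟨rfl, rfl⟩
      · exact hset.transvection_three hK.finrank_eq hgX hns w hwμ hc
      · exact hset.transvection_two hm (Or.inr hK.finrank_eq) hgX hns w hwμ hc
    obtain ⟨y, hy, hy'⟩ := hU
    show ((hf.tr hw hc : HU f) : (Fin n → F) ≃ₗ[F] (Fin n → F)) ∈ X
    convert hy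
    refine LinearEquiv.ext fun z => ?_
    rw [hf.tr_apply, hy', LinearMap.smul_apply, LinearMap.smulRight_apply, LinearMap.comp_apply,
      LinearMap.restrictScalars_apply, hB, smul_smul]
  intro x hx
  have hxH : e x ∈ HU f := fun u v => (hGU x).1 hx.1 u v
  have hxS : (⟨e x, hxH⟩ : HU f) ∈ HSU f := by
    rw [MonoidHom.mem_ker, Units.ext_iff]
    show ((LinearEquiv.det (e x) : Fˣ) : F) = 1
    rw [LinearEquiv.coe_det]
    exact (hSL x).1 hx.2
  obtain ⟨x', hx', e'⟩ := hle hxS
  exact e.injective e' ▸ hx'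

open Cfsg.Geo in
/-- Subfields of degree `r` in dimension `2 r`. -/
theorem isMaximalIn_two {n r q : ℕ} (hF : Fintype.card F = q ^ 2) (hn : n = 2 * r)
    (hcases : r = 3 ∧ 3 ≤ q ∨ r = 5) (K : Subalgebra F (Matrix (Fin n) (Fin n) F)) (hK : IsFieldSubalgebra r K)
    (hadj : IsAdjointClosedFor (Cfsg.hermForm n F q) K) :
    IsMaximalIn (Cfsg.GU n F q ⊓ specialLinear (Fin n) F)
      (subalgebraNormalizer K ⊓ (Cfsg.GU n F q ⊓ specialLinear (Fin n) F)) :=
  isMaximalIn_of hF hn (hcases.imp (fun h => ⟨h.1, Or.inl ⟨rfl, h.2⟩⟩) fun h => ⟨h, rfl⟩) K hK hadj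

end CfsgLib.Geo.UnitFieldExt
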